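import Mathlib
import Cfsg.Agent.H47.OrthIndex
import Cfsg.Agent.H47.OrthEven
import Cfsg.Agent.H44.InvolCent

/-!
Self-adjoint square roots of a non-square on an orthogonal space: all of them are conjugate under the orthogonal
group, and their centraliser is the orthogonal group of a form over the quadratic extension.
-/

set_option autoImplicit false
set_option linter.unusedSectionVars false

namespace H45

namespace OrthExtFix

open H43

variable {F : Type*} [Field F] [Fintype F] {V : Type*} [AddCommGroup V] [Module F V] [FiniteDimensional F V]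
  {Q : QuadraticForm F V} {ν : F}

/-- A self-adjoint square root of `ν`. -/
structure IsQS (Q : QuadraticForm F V) (ν : F) (J : Module.End F V) : Prop where
  sq : ∀ v, J (J v) = ν • v
  adj : ∀ u v, polB Q (J u) v = polB Q u (J v)

variable [hν : Fact (¬ IsSquare ν)]

instance instFactNoRoot : Fact (∀ r : F, r ^ 2 ≠ ν + 0 * r) :=
  ⟨fun r h => hν.out ⟨r, by rw [← pow_two, h]; ring⟩⟩


/-- The quadratic extension. -/
abbrev LExt (ν : F) : Type _ := QuadraticAlgebra F ν 0

noncomputable instance instFintypeLExt : Fintype (LExt ν) := Fintype.ofEquiv _ (QuadraticAlgebra.equivProd ν 0).symm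

include hν

theorem nu_ne_zero : ν ≠ 0 := fun h => hν.out (h ▸ IsSquare.zero)

theorem two_ne : (2 : F) ≠ 0 := fun h => hν.out (H43.isSquare_of_two_eq_zero h ν)

theorem two_ne_L : (2 : LExt ν) ≠ 0 := fun h => two_ne (ν := ν) (by
  apply (algebraMap F (LExt ν)).injective
  rw [map_ofNat, h, map_zero])

theorem card_LExt : Fintype.card (LExt ν) = Fintype.card F ^ 2 := by
  rw [Module.card_eq_pow_finrank (K := F), QuadraticAlgebra.finrank_eq_two]

theorem odd_card : Odd (Fintype.card F) :=
  Nat.odd_iff.mpr (FiniteField.odd_card_of_char_ne_two fun h => two_ne (ν := ν) (by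
    rw [show (2 : F) = ((2 : ℕ) : F) by norm_num, ← h]; exact CharP.cast_eq_zero F _))

theorem odd_card_LExt : Odd (Fintype.card (LExt ν)) := by
  rw [card_LExt]; exact (odd_card (ν := ν)).pow

theorem isSquare_of_norm {δ : LExt ν} (h : IsSquare (Algebra.norm F δ)) : IsSquare δ := by
  rcases eq_or_ne δ 0 with rfl | hδ
  · exact IsSquare.zero
  have h2 : ringChar (LExt ν) ≠ 2 := fun e => two_ne_L (ν := ν) (by
    rw [show (2 : LExt ν) = ((2 : ℕ) : LExt ν) by norm_num, ← e]; exact CharP.cast_eq_zero _ _)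
  rw [FiniteField.isSquare_iff h2 hδ]
  have hN : algebraMap F (LExt ν) (Algebra.norm F δ) = δ ^ (Fintype.card F + 1) := by
    rw [FiniteField.algebraMap_norm_eq_prod_pow, QuadraticAlgebra.finrank_eq_two, Finset.prod_range_succ,
      Finset.prod_range_succ, Finset.prod_range_zero, pow_zero, pow_one, pow_one, one_mul,
      Nat.card_eq_fintype_card, ← pow_succ']
  have hN0 : Algebra.norm F δ ≠ 0 := Algebra.norm_ne_zero_iff.2 hδ
  have h2' : ringChar F ≠ 2 := fun e => two_ne (ν := ν) (by
    rw [show (2 : F) = ((2 : ℕ) : F) by norm_num, ← e]; exact CharP.cast_eq_zero _ _)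
  have h1 := (FiniteField.isSquare_iff h2' hN0).1 h
  obtain ⟨m, hm⟩ := odd_card (ν := ν)
  rw [show Fintype.card (LExt ν) / 2 = (Fintype.card F + 1) * (Fintype.card F / 2) by
    rw [card_LExt, hm, show (2 * m + 1) / 2 = m by omega]
    rw [show (2 * m + 1) ^ 2 = 2 * ((2 * m + 1 + 1) * m) + 1 by ring]
    omega, pow_mul, ← hN, ← map_pow, h1, map_one]

section WJ

variable {J : Module.End F V}

omit hν in
theorem lift_prop (hJ : IsQS Q ν J) : J * J = ν • (1 : Module.End F V) + (0 : F) • J := by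
  rw [zero_smul, add_zero]; exact LinearMap.ext hJ.sq

/-- The space as a space over the extension. -/
@[nolint unusedArguments]
def WJ {J : Module.End F V} (_hJ : IsQS Q ν J) : Type _ := V

variable {hJ : IsQS Q ν J}

noncomputable instance instAddWJ : AddCommGroup (WJ hJ) := inferInstanceAs (AddCommGroup V)

noncomputable instance instModF : Module F (WJ hJ) := inferInstanceAs (Module F V)

noncomputable instance instFinF : FiniteDimensional F (WJ hJ) := inferInstanceAs (FiniteDimensional F V)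

noncomputable instance instModL : Module (LExt ν) (WJ hJ) :=
  Module.compHom V (QuadraticAlgebra.lift ⟨J, lift_prop hJ⟩).toRingHom

/-- The identity, from the space over the extension to the space. -/
noncomputable def toV : WJ hJ ≃ₗ[F] V := LinearEquiv.refl F V

theorem toV_smul (c : LExt ν) (v : WJ hJ) : toV (c • v) = c.re • toV v + c.im • J (toV v) := rfl

instance instTower : IsScalarTower F (LExt ν) (WJ hJ) := ⟨fun t c v => toV.injective (by
  rw [toV_smul, LinearEquiv.map_smul, toV_smul, smul_add, smul_smul, smul_smul, QuadraticAlgebra.re_smul,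
    QuadraticAlgebra.im_smul, smul_eq_mul, smul_eq_mul])⟩

instance instFinL : FiniteDimensional (LExt ν) (WJ hJ) := Module.Finite.of_restrictScalars_finite F _ _

theorem finrank_WJ : 2 * Module.finrank (LExt ν) (WJ hJ) = Module.finrank F V := by
  have h := Module.finrank_mul_finrank F (LExt ν) (WJ hJ)
  rwa [QuadraticAlgebra.finrank_eq_two, (toV (hJ := hJ)).finrank_eq] at h

/-- The bilinear form over the extension. -/
noncomputable def bilJ (hJ : IsQS Q ν J) : LinearMap.BilinForm (LExt ν) (WJ hJ) :=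
  LinearMap.mk₂ (LExt ν) (fun u v => (⟨polB Q (toV u) (toV v), ν⁻¹ * polB Q (J (toV u)) (toV v)⟩ : LExt ν))
    (fun u u' v => by ext <;> simp [mul_add])
    (fun c u v => by
      ext
      · simp only [toV_smul, map_add, map_smul, LinearMap.add_apply, LinearMap.smul_apply, smul_eq_mul,
          QuadraticAlgebra.re_mul]
        field_simp [nu_ne_zero (ν := ν)]
      · simp only [toV_smul, map_add, map_smul, LinearMap.add_apply, LinearMap.smul_apply, smul_eq_mul,
          QuadraticAlgebra.im_mul, hJ.sq]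
        field_simp [nu_ne_zero (ν := ν)]
        ring)
    (fun u v v' => by ext <;> simp [mul_add])
    (fun c u v => by
      ext
      · simp only [toV_smul, map_add, map_smul, smul_eq_mul, QuadraticAlgebra.re_mul, hJ.adj (toV u) (toV v)]
        field_simp [nu_ne_zero (ν := ν)]
      · simp only [toV_smul, map_add, map_smul, smul_eq_mul, QuadraticAlgebra.im_mul, ← hJ.adj (J (toV u)) (toV v),
          ← hJ.adj (toV u) (toV v), hJ.sq, LinearMap.smul_apply]
        field_simp [nu_ne_zero (ν := ν)]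
        ring)

theorem bilJ_re (u v : WJ hJ) : (bilJ hJ u v).re = polB Q (toV u) (toV v) := rfl

theorem bilJ_im (u v : WJ hJ) : (bilJ hJ u v).im = ν⁻¹ * polB Q (J (toV u)) (toV v) := rfl

theorem bilJ_symm (u v : WJ hJ) : bilJ hJ u v = bilJ hJ v u := by
  ext
  · rw [bilJ_re, bilJ_re, polB_comm]
  · rw [bilJ_im, bilJ_im, hJ.adj, polB_comm]

/-- The quadratic form over the extension. -/
noncomputable def qJ (hJ : IsQS Q ν J) : QuadraticForm (LExt ν) (WJ hJ) :=
  (2 : LExt ν)⁻¹ • LinearMap.BilinMap.toQuadraticMap (bilJ hJ)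

theorem qJ_apply (v : WJ hJ) : qJ hJ v = (2 : LExt ν)⁻¹ * bilJ hJ v v := rfl

theorem polar_qJ (u v : WJ hJ) : QuadraticMap.polar (qJ hJ) u v = bilJ hJ u v := by
  rw [QuadraticMap.polar, qJ_apply, qJ_apply, qJ_apply]
  simp only [map_add, LinearMap.add_apply, bilJ_symm v u]
  field_simp [two_ne_L (ν := ν)]
  ring

theorem two_mul_qJ (v : WJ hJ) : 2 * qJ hJ v = bilJ hJ v v := by
  rw [qJ_apply, ← mul_assoc, mul_inv_cancel₀ (two_ne_L (ν := ν)), one_mul]

theorem qJ_re (v : WJ hJ) : (qJ hJ v).re = Q (toV v) := by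
  have h := congrArg QuadraticAlgebra.re (two_mul_qJ v)
  rw [bilJ_re, polB_self, two_mul, QuadraticAlgebra.re_add, ← two_mul] at h
  exact mul_left_cancel₀ (two_ne (ν := ν)) h

theorem qJ_im (v : WJ hJ) : 2 * (qJ hJ v).im = ν⁻¹ * polB Q (J (toV v)) (toV v) := by
  have h := congrArg QuadraticAlgebra.im (two_mul_qJ v)
  rwa [bilJ_im, two_mul, QuadraticAlgebra.im_add, ← two_mul] at h

theorem bilJ_sep (hQ : (polB Q).Nondegenerate) : H44.PolarSep (qJ hJ) := by
  intro u hu
  refine toV.injective ((hQ.1 (toV u) fun v => ?_).trans (map_zero _).symm)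
  have h := congrArg QuadraticAlgebra.re ((polar_qJ u (toV.symm v)).symm.trans (hu (toV.symm v)))
  rwa [bilJ_re, LinearEquiv.apply_symm_apply, QuadraticAlgebra.re_zero] at h

theorem bilJ_nondeg (hQ : (polB Q).Nondegenerate) : (bilJ hJ).Nondegenerate :=
  ⟨fun u hu => bilJ_sep hQ u fun v => by rw [polar_qJ]; exact hu v,
   fun u hu => bilJ_sep hQ u fun v => by rw [polar_qJ, bilJ_symm]; exact hu v⟩

theorem polB_qJ_nondeg (hQ : (polB Q).Nondegenerate) : (polB (qJ hJ)).Nondegenerate :=
  ⟨fun u hu => bilJ_sep hQ u hu, fun u hu => bilJ_sep hQ u fun v => by rw [QuadraticMap.polar_comm]; exact hu v⟩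

/-- A linear map over the extension as a map on the space. -/
noncomputable def toEndV {J' : Module.End F V} {hJ' : IsQS Q ν J'} (φ : WJ hJ →ₗ[LExt ν] WJ hJ') : Module.End F V :=
  (toV (hJ := hJ')).toLinearMap ∘ₗ (φ.restrictScalars F) ∘ₗ (toV (hJ := hJ)).symm.toLinearMap

theorem toEndV_apply {J' : Module.End F V} {hJ' : IsQS Q ν J'} (φ : WJ hJ →ₗ[LExt ν] WJ hJ') (v : V) :
    toEndV φ v = toV (φ (toV.symm v)) := rfl

theorem toEndV_comm {J' : Module.End F V} {hJ' : IsQS Q ν J'} (φ : WJ hJ →ₗ[LExt ν] WJ hJ') (v : V) :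
    toEndV φ (J v) = J' (toEndV φ v) := by
  have h0 : (toV (hJ := hJ)).symm (J v) = (⟨0, 1⟩ : LExt ν) • (toV (hJ := hJ)).symm v := toV.injective (by
    rw [toV_smul, LinearEquiv.apply_symm_apply, LinearEquiv.apply_symm_apply, zero_smul, zero_add, one_smul])
  rw [toEndV_apply, toEndV_apply, h0, map_smul, toV_smul, zero_smul, zero_add, one_smul]

/-- An isometry over the extension as an isometry. -/
noncomputable def toOrthV {J' : Module.End F V} {hJ' : IsQS Q ν J'} (φ : WJ hJ ≃ₗ[LExt ν] WJ hJ')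
    (h : ∀ v, qJ hJ' (φ v) = qJ hJ v) : orthGroup Q :=
  ⟨(toV (hJ := hJ)).symm.trans ((φ.restrictScalars F).trans (toV (hJ := hJ'))), fun v => by
    have := congrArg QuadraticAlgebra.re (h (toV.symm v))
    rw [qJ_re, qJ_re, LinearEquiv.apply_symm_apply] at this
    exact this⟩

theorem toOrthV_apply {J' : Module.End F V} {hJ' : IsQS Q ν J'} (φ : WJ hJ ≃ₗ[LExt ν] WJ hJ')
    (h : ∀ v, qJ hJ' (φ v) = qJ hJ v) (v : V) : (toOrthV φ h).1 v = toV (φ (toV.symm v)) := rfl

/-- The centraliser, through the form over the extension. -/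
noncomputable def embStab (hJ : IsQS Q ν J) : orthGroup (qJ hJ) →* orthGroup Q where
  toFun g := toOrthV g.1 g.2
  map_one' := orth_ext fun _ => LinearEquiv.apply_symm_apply _ _
  map_mul' g g' := orth_ext fun v => by
    show toV (g.1 (g'.1 (toV.symm v))) = toV (g.1 (toV.symm (toV (g'.1 (toV.symm v)))))
    rw [LinearEquiv.symm_apply_apply]

theorem embStab_injective : Function.Injective (embStab hJ) := fun g g' h =>
  orth_ext fun v => by
    have := congrArg (fun x : orthGroup Q => x.1 (toV v)) h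
    simp only [embStab, MonoidHom.coe_mk, OneHom.coe_mk, toOrthV_apply, LinearEquiv.symm_apply_apply] at this
    exact toV.injective this

theorem embStab_comm (g : orthGroup (qJ hJ)) (v : V) : (embStab hJ g).1 (J v) = J ((embStab hJ g).1 v) :=
  toEndV_comm (hJ := hJ) (hJ' := hJ) g.1.toLinearMap v

end WJ

/-- All structures are conjugate. -/
theorem exists_conj (hQ : (polB Q).Nondegenerate) {J J' : Module.End F V} (hJ : IsQS Q ν J) (hJ' : IsQS Q ν J') :
    ∃ φ : orthGroup Q, ∀ v, φ.1 (J v) = J' (φ.1 v) := by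
  classical
  set n := Module.finrank (LExt ν) (WJ hJ) with hn
  have hn' : Module.finrank (LExt ν) (WJ hJ') = n := by
    have h1 := finrank_WJ (hJ := hJ)
    have h2 := finrank_WJ (hJ := hJ')
    omega
  let b := Module.finBasisOfFinrankEq (LExt ν) (WJ hJ) hn.symm
  let b' := Module.finBasisOfFinrankEq (LExt ν) (WJ hJ') hn'
  let φ0 : WJ hJ ≃ₗ[LExt ν] WJ hJ' := b.equiv b' (Equiv.refl _)
  let P : LinearMap.BilinForm (LExt ν) (WJ hJ) := (bilJ hJ').comp φ0.toLinearMap φ0.toLinearMap
  let M := P.symmCompOfNondegenerate (bilJ hJ) (bilJ_nondeg hQ)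
  have hM : ∀ u v, bilJ hJ (M u) v = bilJ hJ' (φ0 u) (φ0 v) := fun u v =>
    LinearMap.BilinForm.symmCompOfNondegenerate_left_apply P (bilJ_nondeg hQ) v u
  let bF := Module.finBasis F V
  have hdetF : LinearMap.det (M.restrictScalars F) = LinearMap.det (toEndV φ0.toLinearMap) ^ 2 := by
    have e : (polB Q).compLeft (toEndV M) = (polB Q).comp (toEndV φ0.toLinearMap) (toEndV φ0.toLinearMap) :=
      LinearMap.ext₂ fun u v => by
        have := congrArg QuadraticAlgebra.re (hM (toV.symm u) (toV.symm v))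
        rw [bilJ_re, bilJ_re, LinearEquiv.apply_symm_apply] at this
        exact this
    have h := congrArg (fun B => (LinearMap.BilinForm.toMatrix bF B).det) e
    simp only [LinearMap.BilinForm.toMatrix_compLeft, LinearMap.BilinForm.toMatrix_comp bF bF, Matrix.det_mul,
      Matrix.det_transpose, LinearMap.det_toMatrix] at h
    have hG : (LinearMap.BilinForm.toMatrix bF (polB Q)).det ≠ 0 :=
      (LinearMap.BilinForm.nondegenerate_iff_det_ne_zero bF).1 hQ
    rw [show LinearMap.det (M.restrictScalars F) = LinearMap.det (toEndV M) from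
      (LinearMap.det_conj (M.restrictScalars F) (toV (hJ := hJ))).symm]
    refine mul_right_cancel₀ hG (h.trans ?_)
    ring
  have hδ : IsSquare (LinearMap.det M) := isSquare_of_norm (by
    rw [← LinearMap.det_restrictScalars, hdetF]; exact IsSquare.sq _)
  have hbb : ∀ i, φ0 (b i) = b' i := fun i => Module.Basis.equiv_apply b i b' (Equiv.refl _)
  have hG : IsSquare ((Matrix.of fun i j => QuadraticMap.polar (⇑(qJ hJ)) (b i) (b j)).det *
      (Matrix.of fun i j => QuadraticMap.polar (⇑(qJ hJ')) (b' i) (b' j)).det) := by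
    have e1 : (Matrix.of fun i j => QuadraticMap.polar (⇑(qJ hJ)) (b i) (b j)) =
        LinearMap.BilinForm.toMatrix b (bilJ hJ) := by
      refine Matrix.ext fun i j => ?_
      rw [Matrix.of_apply, polar_qJ, LinearMap.BilinForm.toMatrix_apply]
    have e2 : (Matrix.of fun i j => QuadraticMap.polar (⇑(qJ hJ')) (b' i) (b' j)) =
        LinearMap.BilinForm.toMatrix b ((bilJ hJ).compLeft M) := by
      refine Matrix.ext fun i j => ?_
      rw [Matrix.of_apply, polar_qJ, LinearMap.BilinForm.toMatrix_apply, ← hbb, ← hbb]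
      exact (hM _ _).symm
    rw [e1, e2, LinearMap.BilinForm.toMatrix_compLeft, Matrix.det_mul, Matrix.det_transpose, LinearMap.det_toMatrix,
      mul_left_comm]
    exact hδ.mul (IsSquare.mul_self _)
  obtain ⟨φ, hφ⟩ := H47.equiv_of_det (odd_card_LExt (ν := ν)) (qJ hJ) (qJ hJ') (bilJ_sep hQ) (bilJ_sep hQ) b b' rfl hG
  exact ⟨toOrthV φ hφ, fun v => toEndV_comm (hJ := hJ) (hJ' := hJ') φ.toLinearMap v⟩

/-- Isometric spaces have isomorphic orthogonal groups. -/
noncomputable def orthTransport {K : Type*} [Field K] {X Y : Type*} [AddCommGroup X] [Module K X] [AddCommGroup Y]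
    [Module K Y] {A : QuadraticForm K X} {B : QuadraticForm K Y} (φ : X ≃ₗ[K] Y) (h : ∀ v, B (φ v) = A v) :
    orthGroup A ≃* orthGroup B where
  toFun g := ⟨φ.symm.trans (g.1.trans φ), fun y => by
    show B (φ (g.1 (φ.symm y))) = B y
    rw [h, g.2, ← h, LinearEquiv.apply_symm_apply]⟩
  invFun g := ⟨φ.trans (g.1.trans φ.symm), fun x => by
    show A (φ.symm (g.1 (φ x))) = A x
    rw [← h, LinearEquiv.apply_symm_apply, g.2, h]⟩
  left_inv g := orth_ext fun x => by
    show φ.symm (φ (g.1 (φ.symm (φ x)))) = g.1 x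
    simp
  right_inv g := orth_ext fun y => by
    show φ (φ.symm (g.1 (φ (φ.symm y)))) = g.1 y
    simp
  map_mul' g g' := orth_ext fun y => by
    show φ (g.1 (g'.1 (φ.symm y))) = φ (g.1 (φ.symm (φ (g'.1 (φ.symm y)))))
    simp

/-- The plus type over the extension is the plus type. -/
theorem plusOn_qJ_iff (hQ : (polB Q).Nondegenerate) {J : Module.End F V} (hJ : IsQS Q ν J) {k : ℕ}
    (hk : Module.finrank (LExt ν) (WJ hJ) = 2 * k) :
    H47.PlusOn (qJ hJ) (⊤ : Submodule (LExt ν) (WJ hJ)) ↔ H47.PlusOn Q (⊤ : Submodule F V) := by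
  classical
  have hdim : Module.finrank F V = 2 * (k + k) := by
    have := finrank_WJ (hJ := hJ)
    omega
  constructor
  · rintro ⟨U, -, hU, hUd⟩
    refine ⟨(U.restrictScalars F).map (toV (hJ := hJ) : WJ hJ →ₗ[F] V), le_top, ?_, ?_⟩
    · rintro _ ⟨u, hu, rfl⟩
      show Q (toV u) = 0
      rw [← qJ_re, hU u hu, QuadraticAlgebra.re_zero]
    · rw [LinearEquiv.finrank_map_eq, finrank_top, hdim]
      have h1 := Module.finrank_mul_finrank F (LExt ν) U
      rw [QuadraticAlgebra.finrank_eq_two] at h1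
      rw [finrank_top, hk] at hUd
      have h2 : Module.finrank F (U.restrictScalars F) = Module.finrank F U := rfl
      omega
  · intro hplus
    obtain ⟨φ, hφ⟩ : ∃ φ : V ≃ₗ[F] (Fin (k + k) ⊕ Fin (k + k) → F), ∀ v, qPlus (k + k) F (φ v) = Q v := by
      rcases H44.equiv_plus_or_minus hdim Q (H44.polarSep_of_nondegenerate hQ) with ⟨φ, hφ⟩ | ⟨hm, ζ, φ, hζ, hφ⟩
      · exact ⟨φ, fun v => by rw [coe_qPlus, hφ]⟩
      · exfalso
        obtain ⟨U, -, hU, hUd⟩ := hplus
        refine H47.not_plusOn_qMinus hm (H44.binForm_one_anisotropic hζ) ⟨U.map (φ : V →ₗ[F] _), le_top, ?_, ?_⟩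
        · rintro _ ⟨u, hu, rfl⟩
          show qMinus (k + k - 1) F 1 ζ (φ u) = 0
          rw [coe_qMinus, ← hφ, hU u hu]
        · rw [LinearEquiv.finrank_map_eq, hUd, finrank_top, finrank_top, φ.finrank_eq]
    let e : Fin k ⊕ Fin k ≃ Fin (k + k) := finSumFinEquiv
    let T : Module.End F (Fin k ⊕ Fin k → F) :=
      LinearMap.pi (Sum.elim (fun i => ν • LinearMap.proj (Sum.inr i)) fun i => LinearMap.proj (Sum.inl i))
    let T' : Module.End F (Fin k ⊕ Fin k → F) :=
      LinearMap.pi (Sum.elim (fun i => LinearMap.proj (Sum.inr i)) fun i => ν • LinearMap.proj (Sum.inl i))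
    have hTd : ∀ a b : Fin k ⊕ Fin k → F, ∑ i, T a i * b i = ∑ i, a i * T' b i := fun a b => by
      simp only [Fintype.sum_sum_type, T, T', LinearMap.pi_apply, Sum.elim_inl, Sum.elim_inr, LinearMap.proj_apply,
        LinearMap.smul_apply, smul_eq_mul]
      rw [add_comm]
      congr 1 <;> exact Finset.sum_congr rfl fun i _ => by ring
    let emb : (Fin (k + k) → F) ≃ₗ[F] (Fin k ⊕ Fin k → F) := LinearEquiv.funCongrLeft F F e
    let J₀ : Module.End F (Fin (k + k) ⊕ Fin (k + k) → F) :=
      LinearMap.pi (Sum.elim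
        (fun i => (LinearMap.proj (e.symm i)).comp (T.comp (emb.toLinearMap.comp (LinearMap.funLeft F F Sum.inl))))
        fun i => (LinearMap.proj (e.symm i)).comp (T'.comp (emb.toLinearMap.comp (LinearMap.funLeft F F Sum.inr))))
    have hJl : ∀ x i, J₀ x (Sum.inl (e i)) = T (fun j => x (Sum.inl (e j))) i := fun x i => by
      show T (emb (LinearMap.funLeft F F Sum.inl x)) (e.symm (e i)) = _
      rw [e.symm_apply_apply]; rfl
    have hJr : ∀ x i, J₀ x (Sum.inr (e i)) = T' (fun j => x (Sum.inr (e j))) i := fun x i => by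
      show T' (emb (LinearMap.funLeft F F Sum.inr x)) (e.symm (e i)) = _
      rw [e.symm_apply_apply]; rfl
    have hpol : ∀ x y, polB (qPlus (k + k) F) x y =
        ∑ i, x (Sum.inl (e i)) * y (Sum.inr (e i)) + ∑ i, x (Sum.inr (e i)) * y (Sum.inl (e i)) := fun x y => by
      rw [polB_apply, QuadraticMap.polar, coe_qPlus, Cfsg.quadFormPlus, Cfsg.quadFormPlus, Cfsg.quadFormPlus,
        ← Finset.sum_sub_distrib, ← Finset.sum_sub_distrib, ← e.sum_comp, ← Finset.sum_add_distrib]
      exact Finset.sum_congr rfl fun i _ => by simp only [Pi.add_apply]; ring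
    have hJ₀ : IsQS (qPlus (k + k) F) ν J₀ := by
      constructor
      · intro x
        funext j
        rcases j with j | j <;> obtain ⟨i, rfl⟩ := e.surjective j
        · rw [hJl, show (fun l => J₀ x (Sum.inl (e l))) = T fun l => x (Sum.inl (e l)) from funext (hJl x)]
          rcases i with i | i <;> simp [T]
        · rw [hJr, show (fun l => J₀ x (Sum.inr (e l))) = T' fun l => x (Sum.inr (e l)) from funext (hJr x)]
          rcases i with i | i <;> simp [T']
      · intro x y
        simp only [hpol, hJl, hJr]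
        rw [hTd (fun j => x (Sum.inl (e j))) fun j => y (Sum.inr (e j))]
        congr 1
        have := hTd (fun j => y (Sum.inl (e j))) fun j => x (Sum.inr (e j))
        rw [Finset.sum_congr rfl fun i _ => mul_comm (T' _ i) _, ← this]
        exact Finset.sum_congr rfl fun i _ => mul_comm _ _
    have hpb : ∀ u v, polB Q u v = polB (qPlus (k + k) F) (φ u) (φ v) := fun u v => by
      simp only [polB_apply, QuadraticMap.polar, ← map_add, hφ]
    let J' : Module.End F V := φ.symm.toLinearMap ∘ₗ J₀ ∘ₗ φ.toLinearMap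
    have hJ'a : ∀ v, φ (J' v) = J₀ (φ v) := fun v => φ.apply_symm_apply _
    have hJ' : IsQS Q ν J' := ⟨fun v => φ.injective (by rw [hJ'a, hJ'a, hJ₀.sq, map_smul]),
      fun u v => by rw [hpb, hpb, hJ'a, hJ'a, hJ₀.adj]⟩
    obtain ⟨ψ, hψ⟩ := exists_conj hQ hJ' hJ
    let U₀ : Submodule F (Fin (k + k) ⊕ Fin (k + k) → F) := H43.stdTS (k + k) F
    have hU₀ : ∀ x, x ∈ U₀ ↔ ∀ i, x (Sum.inr i) = 0 := fun x =>
      ⟨fun ⟨y, hy⟩ i => by rw [← hy]; rfl, fun h => ⟨fun i => x (Sum.inl i), funext fun s => by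
        rcases s with i | i
        · rfl
        · exact (h i).symm⟩⟩
    let U : Submodule (LExt ν) (WJ hJ) :=
      { carrier := {w | φ (ψ.1.symm (toV w)) ∈ U₀}
        add_mem' := fun {a b} ha hb => by simpa using add_mem ha hb
        zero_mem' := by simp
        smul_mem' := fun c w hw => by
          show φ (ψ.1.symm (toV (c • w))) ∈ U₀
          have hsymm : ψ.1.symm (J (toV w)) = J' (ψ.1.symm (toV w)) := ψ.1.injective (by
            rw [LinearEquiv.apply_symm_apply, hψ, LinearEquiv.apply_symm_apply])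
          rw [toV_smul, map_add, map_smul, map_smul, hsymm, map_add, map_smul, map_smul, hJ'a]
          refine add_mem (U₀.smul_mem _ hw) (U₀.smul_mem _ ((hU₀ _).2 fun i => ?_))
          obtain ⟨j, rfl⟩ := e.surjective i
          rw [hJr, show (fun l => φ (ψ.1.symm (toV w)) (Sum.inr (e l))) = 0 from funext fun l => (hU₀ _).1 hw _,
            map_zero, Pi.zero_apply] }
    refine ⟨U, le_top, fun w hw => ?_, ?_⟩
    · have hs : ∀ a ∈ U, Q (toV a) = 0 := fun a ha => by
        rw [← ψ.1.apply_symm_apply (toV a), ψ.2, ← hφ]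
        exact (H43.stdTS_isTS (k + k) F).2 _ ha
      ext
      · rw [qJ_re, hs w hw, QuadraticAlgebra.re_zero]
      · have h1 := qJ_im w
        have h2 : J (toV w) = toV ((⟨0, 1⟩ : LExt ν) • w) := by rw [toV_smul]; simp
        have h3 := hs _ (add_mem (U.smul_mem ⟨0, 1⟩ hw) hw)
        rw [map_add, qmap_add, hs _ (U.smul_mem ⟨0, 1⟩ hw), hs w hw, zero_add, zero_add] at h3
        rw [h2, h3, mul_zero] at h1
        exact (mul_eq_zero.1 h1).resolve_left (two_ne (ν := ν))
    · have h1 := Module.finrank_mul_finrank F (LExt ν) U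
      rw [QuadraticAlgebra.finrank_eq_two] at h1
      have h2 : Module.finrank F U = Module.finrank F U₀ := by
        let Φ : WJ hJ ≃ₗ[F] (Fin (k + k) ⊕ Fin (k + k) → F) := (toV (hJ := hJ)).trans (ψ.1.symm.trans φ)
        refine (show Module.finrank F U = Module.finrank F (U.restrictScalars F) from rfl).trans ?_
        rw [show U.restrictScalars F = U₀.comap (Φ : WJ hJ →ₗ[F] _) from rfl, Submodule.comap_equiv_eq_map_symm,
          LinearEquiv.finrank_map_eq]
      rw [(H43.stdTS_isTS (k + k) F).1] at h2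
      rw [finrank_top, hk]
      omega

/-- The order of the centraliser: the factors with even exponents. -/
theorem prod_dvd_card_stab (hQ : (polB Q).Nondegenerate) {J : Module.End F V} (hJ : IsQS Q ν J) {d : ℕ}
    (hd : Module.finrank (LExt ν) (WJ hJ) = d) :
    ((∏ j ∈ Finset.range ((d - 1) / 2), ((Fintype.card F ^ 2) ^ (2 * (j + 1)) - 1)) ∣ Nat.card (orthGroup (qJ hJ))) ∧
    ∀ k, d = 2 * (k + 1) →
      (H47.PlusOn Q (⊤ : Submodule F V) →
        ((Fintype.card F ^ 2) ^ (k + 1) - 1) * (∏ j ∈ Finset.range k, ((Fintype.card F ^ 2) ^ (2 * (j + 1)) - 1)) ∣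
          Nat.card (orthGroup (qJ hJ))) ∧
      (¬ H47.PlusOn Q (⊤ : Submodule F V) →
        ((Fintype.card F ^ 2) ^ (k + 1) + 1) * (∏ j ∈ Finset.range k, ((Fintype.card F ^ 2) ^ (2 * (j + 1)) - 1)) ∣
          Nat.card (orthGroup (qJ hJ))) := by
  classical
  have hL := card_LExt (F := F) (ν := ν)
  rcases Nat.eq_zero_or_pos d with rfl | hd0
  · exact ⟨by simp, fun k hk => by omega⟩
  rcases Nat.even_or_odd d with ⟨m, rfl⟩ | ⟨m, rfl⟩
  · obtain ⟨k, rfl⟩ : ∃ k, m = k + 1 := ⟨m - 1, by omega⟩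
    have hrank : Module.finrank (LExt ν) (WJ hJ) = 2 * (k + 1) := by omega
    have htype := plusOn_qJ_iff hQ hJ hrank
    rw [show (k + 1 + (k + 1) - 1) / 2 = k by omega]
    rcases H44.equiv_plus_or_minus hrank (qJ hJ) (bilJ_sep hQ) with ⟨φ, hφ⟩ | ⟨hm, ζ, φ, hζ, hφ⟩
    · have hcard : Nat.card (orthGroup (qJ hJ)) = 2 * (Fintype.card F ^ 2) ^ (k * (k + 1)) *
          ((Fintype.card F ^ 2) ^ (k + 1) - 1) * ∏ j ∈ Finset.range k, ((Fintype.card F ^ 2) ^ (2 * (j + 1)) - 1) := by
        rw [Nat.card_congr (orthTransport φ (B := qPlus (k + 1) (LExt ν)) fun v => by rw [coe_qPlus, hφ]).toEquiv,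
          H44.OCent.card_orth_plus, H44.OCent.plusOrder, hL]
      have hplus : H47.PlusOn (qJ hJ) (⊤ : Submodule (LExt ν) (WJ hJ)) := by
        refine ⟨(H43.stdTS (k + 1) (LExt ν)).map (φ.symm : _ →ₗ[LExt ν] WJ hJ), le_top, ?_, ?_⟩
        · rintro _ ⟨u, hu, rfl⟩
          show qJ hJ (φ.symm u) = 0
          rw [hφ, LinearEquiv.apply_symm_apply, ← coe_qPlus]
          exact (H43.stdTS_isTS _ _).2 u hu
        · rw [LinearEquiv.finrank_map_eq, (H43.stdTS_isTS _ _).1, finrank_top, hrank]
      refine ⟨hcard ▸ dvd_mul_left _ _, fun k' hk' => ?_⟩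
      obtain rfl : k' = k := by omega
      refine ⟨fun _ => ?_, fun h => absurd (htype.1 hplus) h⟩
      rw [hcard, mul_assoc]
      exact dvd_mul_left _ _
    · have hcard : Nat.card (orthGroup (qJ hJ)) = 2 * (Fintype.card F ^ 2) ^ (k * (k + 1)) *
          ((Fintype.card F ^ 2) ^ (k + 1) + 1) * ∏ j ∈ Finset.range k, ((Fintype.card F ^ 2) ^ (2 * (j + 1)) - 1) := by
        rw [Nat.card_congr (orthTransport φ (B := qMinus (k + 1 - 1) (LExt ν) 1 ζ) fun v => by rw [coe_qMinus, hφ]).toEquiv,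
          ← Nat.card_congr (toOrth (qMinus (k + 1 - 1) (LExt ν) 1 ζ)).toEquiv, coe_qMinus, Nat.add_sub_cancel,
          H38.card_minus k 1 ζ (H44.binForm_one_anisotropic hζ), hL]
      have hnplus : ¬ H47.PlusOn (qJ hJ) (⊤ : Submodule (LExt ν) (WJ hJ)) := by
        rintro ⟨U, -, hU, hUd⟩
        refine H47.not_plusOn_qMinus hm (H44.binForm_one_anisotropic hζ) ⟨U.map (φ : WJ hJ →ₗ[LExt ν] _), le_top, ?_, ?_⟩
        · rintro _ ⟨u, hu, rfl⟩
          show qMinus (k + 1 - 1) (LExt ν) 1 ζ (φ u) = 0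
          rw [coe_qMinus, ← hφ, hU u hu]
        · rw [LinearEquiv.finrank_map_eq, hUd, finrank_top, finrank_top, φ.finrank_eq]
      refine ⟨hcard ▸ dvd_mul_left _ _, fun k' hk' => ?_⟩
      obtain rfl : k' = k := by omega
      refine ⟨fun h => absurd (htype.2 h) hnplus, fun _ => ?_⟩
      rw [hcard, mul_assoc]
      exact dvd_mul_left _ _
  · refine ⟨?_, fun k hk => by omega⟩
    rw [show (2 * m + 1 - 1) / 2 = m by omega]
    obtain ⟨c, φ, hc, hφ⟩ := H44.equiv_odd hd (qJ hJ) (bilJ_sep hQ)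
    let S : (Unit ⊕ (Fin m ⊕ Fin m) → LExt ν) ≃ₗ[LExt ν] (Unit ⊕ (Fin m ⊕ Fin m) → LExt ν) :=
      (LinearEquiv.sumArrowLequivProdArrow _ _ (LExt ν) (LExt ν)).trans
        (((LinearEquiv.refl (LExt ν) _).prodCongr (H44.scaleLeftEquiv m c⁻¹ (inv_ne_zero hc))).trans
          (LinearEquiv.sumArrowLequivProdArrow _ _ (LExt ν) (LExt ν)).symm)
    have hS : ∀ v, c * qOdd m (LExt ν) (S (φ v)) = qJ hJ v := fun v => by
      rw [hφ, coe_qOdd]
      simp [Cfsg.quadFormOdd, S, H44.scaleLeftEquiv, mul_add, Finset.mul_sum, ← mul_assoc, mul_inv_cancel₀ hc]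
    have hcard : Nat.card (orthGroup (qJ hJ)) = Nat.card (orthGroup (c • qOdd m (LExt ν))) :=
      Nat.card_congr (orthTransport (φ.trans S) fun v => by
        rw [QuadraticMap.smul_apply, smul_eq_mul, LinearEquiv.trans_apply, hS]).toEquiv
    have hsame : orthGroup (c • qOdd m (LExt ν)) = orthGroup (qOdd m (LExt ν)) := by
      ext g
      simp only [mem_orthGroup, QuadraticMap.smul_apply, smul_eq_mul, mul_right_inj' hc]
    rw [hcard, hsame, ← Nat.card_congr (toOrth (qOdd m (LExt ν))).toEquiv, coe_qOdd,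
      H38.card_odd (two_ne_L (ν := ν)), hL]
    exact dvd_mul_left _ _

end OrthExtFix

end H45
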