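import Mathlib
import Cfsg.Agent.H45.OrthExtFix.Struct
import Cfsg.Agent.H47.OrthTS

/-!
Elements of odd prime order commuting with no self-adjoint square root of a non-square.
-/

set_option autoImplicit false
set_option linter.unusedSectionVars false

namespace H45

namespace OrthExtFix

open H43 H47 Polynomial

variable {F : Type*} [Field F] [Fintype F] {V : Type*} [AddCommGroup V] [Module F V] [FiniteDimensional F V]
  {Q : QuadraticForm F V} {ν : F} [hν : Fact (¬ IsSquare ν)] {r : ℕ} [hr : Fact r.Prime]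

/-- In the defining characteristic: a transvection-like unipotent element with one Jordan block of size three. -/
theorem derange_char (hQ : (polB Q).Nondegenerate) (h5 : 5 ≤ Module.finrank F V) (hr2 : r ≠ 2)
    (hrq : r ∣ Fintype.card F) :
    ∃ g : orthGroup Q, g ^ r = 1 ∧ g ≠ 1 ∧ ∀ J, IsQS Q ν J → ¬ ∀ v, g.1 (J v) = J (g.1 v) := by
  have h2 := two_ne (F := F) (ν := ν)
  haveI : CharP F r := by
    obtain ⟨p, hp⟩ := CharP.exists F
    obtain ⟨n, hpp, hn⟩ := FiniteField.card F p
    rw [hn] at hrq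
    rwa [(Nat.prime_dvd_prime_iff_eq hr.out hpp).1 (hr.out.dvd_of_dvd_pow hrq)]
  obtain ⟨U, -, hUd, hU0⟩ := (exists_ts_iff (Q := Q) (ndOn_top hQ) 1).2 (Or.inl (by rw [finrank_top]; omega))
  obtain ⟨e, heU, he0⟩ := Submodule.exists_mem_ne_zero_of_ne_bot (p := U) fun h => by rw [h, finrank_bot] at hUd; omega
  have hQe : Q e = 0 := hU0 e heU
  obtain ⟨w, hw, hQw⟩ : ∃ w ∈ (polB Q).orthogonal (F ∙ e), Q w ≠ 0 := by
    by_contra hall
    push Not at hall
    have h1 := two_mul_ts_le (ndOn_top hQ) (le_top (a := (polB Q).orthogonal (F ∙ e))) hall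
    have h2' := finrank_orth_add hQ (F ∙ e)
    rw [finrank_span_singleton he0] at h2'
    rw [finrank_top] at h1
    omega
  have hew : polB Q e w = 0 := hw e (Submodule.mem_span_singleton_self e)
  obtain ⟨g, hgdef⟩ : ∃ g : orthGroup Q, g = eichler Q e w := ⟨_, rfl⟩
  have hg1 : ∀ x, g.1 x - x = polB Q x e • w - polB Q x w • e - (Q w * polB Q x e) • e := fun x => by
    rw [hgdef, eichler_apply hQe hew]; abel
  set N : Module.End F V := endT g - 1 with hN
  have hNa : ∀ x, N x = polB Q x e • w - polB Q x w • e - (Q w * polB Q x e) • e := fun x => hg1 x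
  have hNN : ∀ x, N (N x) = (-2 * Q w * polB Q x e) • e := fun x => by
    rw [hNa x]
    simp only [map_sub, map_smul, hNa w, hNa e, polB_self, hQe, hew, polB_comm w e, mul_zero, zero_smul, zero_sub,
      sub_zero, smul_zero, neg_zero]
    module
  have hN3 : ∀ x, N (N (N x)) = 0 := fun x => by
    rw [hNN x, map_smul, hNa e, polB_self, hQe, hew]; simp
  haveI : Nontrivial V := nontrivial_of_ne e 0 he0
  haveI : CharP (Module.End F V) r := charP_of_injective_algebraMap' F r
  have hpow : endT g ^ r = 1 := by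
    rw [← sub_eq_zero, ← one_pow (M := Module.End F V) r, ← sub_pow_char_of_commute r (Commute.one_right _), ← hN]
    refine pow_eq_zero_of_le (m := 3) (by have := hr.out.two_le; omega) (LinearMap.ext fun x => ?_)
    rw [pow_succ, pow_succ, pow_one]
    exact hN3 x
  obtain ⟨x, hx⟩ : ∃ x, polB Q x e ≠ 0 := by
    by_contra hall
    push Not at hall
    exact he0 (hQ.2 e hall)
  refine ⟨g, orth_ext fun v => ?_, fun h => ?_, fun J hJ hcomm => ?_⟩
  · rw [← endT_pow_apply, hpow]; rfl
  · have h1 := hNN x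
    have hN0 : N = 0 := LinearMap.ext fun v => by
      show g.1 v - v = 0
      rw [h]; exact sub_self _
    rw [hN0, LinearMap.zero_apply, eq_comm, smul_eq_zero] at h1
    exact mul_ne_zero (mul_ne_zero (neg_ne_zero.2 h2) hQw) hx (h1.resolve_right he0)
  · have hNJ : ∀ v, N (J v) = J (N v) := fun v => by
      show g.1 (J v) - J v = J (g.1 v - v)
      rw [map_sub, hcomm]
    have h1 := hNN (J x)
    rw [hNJ, hNJ, hNN, map_smul] at h1
    have hc : (-2 * Q w * polB Q x e) ≠ 0 := mul_ne_zero (mul_ne_zero (neg_ne_zero.2 h2) hQw) hx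
    have h3 : J e = ((-2 * Q w * polB Q x e)⁻¹ * (-2 * Q w * polB Q (J x) e)) • e := by
      rw [← smul_smul, ← h1, smul_smul, inv_mul_cancel₀ hc, one_smul]
    set μ := (-2 * Q w * polB Q x e)⁻¹ * (-2 * Q w * polB Q (J x) e)
    have h4 := hJ.sq e
    rw [h3, map_smul, h3, smul_smul] at h4
    exact hν.out ⟨μ, (smul_left_injective F he0 h4).symm⟩

omit [FiniteDimensional F V] hν hr [Fintype F] in
theorem aeval_comm {T J : Module.End F V} (h : ∀ v, T (J v) = J (T v)) (R : F[X]) (v : V) :
    aeval T R (J v) = J (aeval T R v) := by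
  induction R using Polynomial.induction_on generalizing v with
  | C a => simp [Module.algebraMap_end_apply]
  | add p p' hp hp' => simp [hp, hp']
  | monomial n a ih =>
    rw [pow_succ, ← mul_assoc, map_mul, aeval_X, Module.End.mul_apply, Module.End.mul_apply, h, ih]

theorem pow_half_nonsquare : ν ^ (Fintype.card F / 2) = -1 := by
  have h2' : ringChar F ≠ 2 := fun e => two_ne (F := F) (ν := ν) (by
    rw [show (2 : F) = ((2 : ℕ) : F) by norm_num, ← e]; exact CharP.cast_eq_zero _ _)
  exact (FiniteField.pow_dichotomy h2' (nu_ne_zero (F := F) (ν := ν))).resolve_left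
    fun h => hν.out ((FiniteField.isSquare_iff h2' (nu_ne_zero (F := F) (ν := ν))).2 h)

theorem exists_half_power (j : ℕ) : ∃ m, Fintype.card F ^ j = 2 * m + 1 ∧ ν ^ m = (-1) ^ j := by
  induction j with
  | zero => exact ⟨0, by simp, by simp⟩
  | succ j ih =>
    obtain ⟨m, hm, hν'⟩ := ih
    obtain ⟨u, hu⟩ := odd_card (F := F) (ν := ν)
    refine ⟨Fintype.card F * m + Fintype.card F / 2, ?_, ?_⟩
    · rw [pow_succ, hm, hu, show (2 * u + 1) / 2 = u by omega]; ring
    · rw [pow_add, mul_comm (Fintype.card F), pow_mul, hν', FiniteField.pow_card, pow_half_nonsquare, pow_succ]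

/-- One block of size `i ≡ 2 (mod 4)`. -/
theorem derange_two_mod_four {g : orthGroup Q} (hg : g ^ r = 1) (hrq : ¬ r ∣ Fintype.card F) {j : ℕ} (hj : Odd j)
    (hi : orderOf (Fintype.card F : ZMod r) = 2 * j) (hW : NdOn Q (resid g)) (hf : FixFree g (resid g))
    (hd : Module.finrank F (resid g) = 2 * j) {J : Module.End F V} (hJ : IsQS Q ν J)
    (hcomm : ∀ v, g.1 (J v) = J (g.1 v)) : False := by
  have hr1 : 1 ≤ r := hr.out.pos
  have hTJ : ∀ v, endT g (J v) = J (endT g v) := hcomm
  have hWi := inv_resid g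
  have hJW : ∀ w ∈ resid g, J w ∈ resid g := by
    rintro _ ⟨u, rfl⟩
    exact ⟨J u, by rw [resMap_apply, resMap_apply, map_sub, hcomm]⟩
  have hW0 : resid g ≠ ⊥ := fun h => by rw [h, finrank_bot] at hd; have := hj.pos; omega
  obtain ⟨v, hv, hv0⟩ := Submodule.exists_mem_ne_zero_of_ne_bot hW0
  let ev : F[X] →ₗ[F] V := (LinearMap.applyₗ v).comp (aeval (endT g)).toLinearMap
  have hev : ∀ R, ev R = aeval (endT g) R v := fun R => rfl
  have hCi : Inv g (LinearMap.range ev) := by
    rintro _ ⟨R, rfl⟩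
    exact ⟨X * R, by rw [hev, hev, map_mul, aeval_X, Module.End.mul_apply]; rfl⟩
  have hCle : LinearMap.range ev ≤ resid g := by
    rintro _ ⟨R, rfl⟩
    exact aeval_mem (S := endT g) hWi R v hv
  have hCW : LinearMap.range ev = resid g := by
    refine Submodule.eq_of_le_of_finrank_le hCle ?_
    have h := inv_dim_dvd hg hCi fun w hw => hf w (hCle hw)
    rw [hi] at h
    rw [hd]
    refine Nat.le_of_dvd (Nat.pos_of_ne_zero fun h0 => hv0 ?_) h
    have hvC : v ∈ LinearMap.range ev := ⟨1, by rw [hev, map_one]; rfl⟩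
    rw [Submodule.finrank_eq_zero.1 h0] at hvC
    exact (Submodule.mem_bot F).1 hvC
  obtain ⟨R, hR⟩ : J v ∈ LinearMap.range ev := hCW ▸ hJW v hv
  rw [hev] at hR
  have hJR : ∀ w ∈ resid g, aeval (endT g) R w = J w := by
    intro w hw
    rw [← hCW] at hw
    obtain ⟨P, rfl⟩ := hw
    rw [hev, ← Module.End.mul_apply, ← map_mul, mul_comm, map_mul, Module.End.mul_apply, hR, aeval_comm hTJ]
  have hJR' : ∀ w ∈ resid g, aeval (endT g ^ (r - 1)) R w = J w := by
    intro w hw
    refine sub_eq_zero.1 (hW.eq_zero (sub_mem (aeval_mem (hWi.pow (r - 1)) R w hw) (hJW w hw)) fun u hu => ?_)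
    have hadj := aeval_adjoint (Q := Q) (S := endT g) (S' := endT g ^ (r - 1))
      (fun a b => by
        have h := endT_adjoint (Q := Q) hg (a := 1) (b := r - 1) (by rw [Nat.add_sub_cancel' hr1]) a b
        rwa [pow_one] at h) R u w
    rw [hJR u hu] at hadj
    rw [map_sub, ← hadj, hJ.adj, sub_self]
  have hmod : endT g ^ (r - 1) = endT g ^ (Fintype.card F ^ j) := by
    have hne : (Fintype.card F : ZMod r) ^ j ≠ 1 := fun h => by
      have := Nat.le_of_dvd hj.pos (orderOf_dvd_of_pow_eq_one h)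
      rw [hi] at this
      have := hj.pos
      omega
    have hsq : (Fintype.card F : ZMod r) ^ j * (Fintype.card F : ZMod r) ^ j = 1 := by
      rw [← pow_add, ← two_mul, ← hi, pow_orderOf_eq_one]
    have hm1 := (mul_self_eq_one_iff.1 hsq).resolve_left hne
    have hmod : (r - 1) % r = Fintype.card F ^ j % r := by
      rw [← ZMod.val_natCast, ← ZMod.val_natCast, Nat.cast_pow, hm1, Nat.cast_sub hr1, ZMod.natCast_self,
        Nat.cast_one, zero_sub]
    have hT : endT g ^ r = 1 := endT_pow_eq_one hg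
    rw [pow_eq_pow_mod (r - 1) hT, hmod, ← pow_eq_pow_mod _ hT]
  have hpowJ : ∀ n : ℕ, ∀ w ∈ resid g, (aeval (endT g) R ^ n) w = (J ^ n) w := by
    intro n
    induction n with
    | zero => intro w _; rfl
    | succ n ih =>
      intro w hw
      rw [pow_succ, pow_succ, Module.End.mul_apply, Module.End.mul_apply, hJR w hw, ih _ (hJW w hw)]
  obtain ⟨m, hm, hνm⟩ := exists_half_power (F := F) (ν := ν) j
  have hJeven : ∀ n : ℕ, ∀ w, (J ^ (2 * n)) w = ν ^ n • w := by
    intro n
    induction n with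
    | zero => intro w; simp
    | succ n ih =>
      intro w
      rw [Nat.mul_succ, pow_add, Module.End.mul_apply, pow_two, Module.End.mul_apply, hJ.sq, map_smul, ih, smul_smul,
        ← pow_succ']
  have h1 := hJR' v hv
  rw [hmod, aeval_frob, hpowJ _ v hv, hm, pow_succ, Module.End.mul_apply, hJeven, hνm, hj.neg_one_pow,
    neg_one_smul] at h1
  have h3 : (2 : F) • J v = 0 := by
    rw [two_smul]; nth_rw 1 [← h1]; exact neg_add_cancel _
  have h4 : J v = 0 := (smul_eq_zero.1 h3).resolve_left (two_ne (F := F) (ν := ν))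
  have h5 := hJ.sq v
  rw [h4, map_zero, eq_comm, smul_eq_zero] at h5
  exact hv0 (h5.resolve_left (nu_ne_zero (F := F) (ν := ν)))

omit hν in
/-- A class is not stable under inversion when the order of `q` is odd. -/
theorem class_not_inverse {g : orthGroup Q} (hg : g ^ r = 1) (hr2 : r ≠ 2) (hrq : ¬ r ∣ Fintype.card F)
    (hi : Odd (orderOf (Fintype.card F : ZMod r))) {v : V} (hv : v ≠ 0) (hfix : g.1 v ≠ v) {P : F[X]}
    (hP : P ∈ classes F r) (h1 : aeval (endT g) P v = 0) (h2 : aeval (endT g ^ (r - 1)) P v = 0) : False := by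
  have hirr := classes_irred hP
  have hdvd : ∀ R : F[X], aeval (endT g) R v = 0 → P ∣ R := fun R hR => by
    by_contra hn
    exact hv (eq_zero_of_coprime (hirr.coprime_iff_not_dvd.2 hn) h1 hR)
  have hd1 : P ∣ X ^ r - 1 := hdvd _ (by rw [map_sub, map_pow, aeval_X, endT_pow_eq_one hg, map_one, sub_self]; rfl)
  have hd2 : P ∣ P.comp (X ^ (r - 1)) := hdvd _ (by rw [aeval_comp, map_pow, aeval_X]; exact h2)
  haveI : Fact (Irreducible P) := ⟨hirr⟩
  set pb := AdjoinRoot.powerBasis hirr.ne_zero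
  haveI : Module.Finite F (AdjoinRoot P) := pb.finite
  haveI : Finite (AdjoinRoot P) := Module.finite_of_finite F
  set α := AdjoinRoot.root P with hα
  have hαr : α ^ r = 1 := by
    rw [← AdjoinRoot.mk_eq_zero, map_sub, map_pow, AdjoinRoot.mk_X, map_one, sub_eq_zero] at hd1
    exact hd1
  have hα1 : α ≠ 1 := fun h => by
    have h3 : P ∣ X - 1 := by rw [← AdjoinRoot.mk_eq_zero, map_sub, AdjoinRoot.mk_X, map_one, ← hα, h, sub_self]
    obtain ⟨R, hR⟩ := h3
    rw [mul_comm] at hR
    have h4 := congrArg (fun R => aeval (endT g) R v) hR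
    simp only [map_sub, map_mul, map_one, aeval_X] at h4
    rw [LinearMap.sub_apply, Module.End.one_apply, Module.End.mul_apply, h1, map_zero, sub_eq_zero] at h4
    exact hfix h4
  have hroot : aeval (α ^ (r - 1)) P = 0 := by
    rw [← AdjoinRoot.mk_eq_zero, ← AdjoinRoot.aeval_eq, aeval_comp, map_pow, aeval_X] at hd2
    exact hd2
  obtain ⟨⟨k, hk⟩, hkσ⟩ := (FiniteField.bijective_frobeniusAlgHom_pow F (AdjoinRoot P)).2
    (AdjoinRoot.liftAlgHom P (Algebra.ofId F _) (α ^ (r - 1)) hroot)
  have hpow : α ^ (Fintype.card F ^ k) = α ^ (r - 1) := by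
    have := DFunLike.congr_fun hkσ α
    rw [AlgHom.coe_pow, FiniteField.coe_frobeniusAlgHom, pow_iterate] at this
    exact this.trans (AdjoinRoot.lift_root hroot)
  have hord : orderOf α = r := orderOf_eq_prime hαr hα1
  have hα0 : α ≠ 0 := fun h => by rw [h, zero_pow hr.out.ne_zero] at hαr; exact zero_ne_one hαr
  obtain ⟨u, hu⟩ : ∃ u : (AdjoinRoot P)ˣ, (u : AdjoinRoot P) = α := ⟨Units.mk0 α hα0, rfl⟩
  have hmodEq : Fintype.card F ^ k ≡ r - 1 [MOD r] := by
    have huo : orderOf u = r := by rw [← orderOf_units, hu, hord]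
    have := (pow_eq_pow_iff_modEq (x := u) (n := Fintype.card F ^ k) (m := r - 1)).1
      (Units.ext (by rw [Units.val_pow_eq_pow_val, Units.val_pow_eq_pow_val, hu, hpow]))
    rwa [huo] at this
  have hcast : (Fintype.card F : ZMod r) ^ k = -1 := by
    rw [← Nat.cast_pow, (ZMod.natCast_eq_natCast_iff _ _ r).2 hmodEq, Nat.cast_sub hr.out.one_le, ZMod.natCast_self,
      Nat.cast_one, zero_sub]
  have h5 : ((-1 : ZMod r)) = 1 := by
    have := congrArg (fun x : ZMod r => x ^ orderOf (Fintype.card F : ZMod r)) hcast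
    simp only [← pow_mul, mul_comm k, hi.neg_one_pow] at this
    rw [pow_mul, pow_orderOf_eq_one, one_pow] at this
    exact this.symm
  haveI : Fact (2 < r) := ⟨by have := hr.out.two_le; omega⟩
  exact ZMod.neg_one_ne_one h5

/-- One block for odd order of `q`. -/
theorem derange_odd {g : orthGroup Q} (hg : g ^ r = 1) (hr2 : r ≠ 2) (hrq : ¬ r ∣ Fintype.card F)
    (hi : Odd (orderOf (Fintype.card F : ZMod r))) (hW : NdOn Q (resid g)) (hf : FixFree g (resid g))
    (hd : Module.finrank F (resid g) = 1 * blockDim F r) {J : Module.End F V} (hJ : IsQS Q ν J)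
    (hcomm : ∀ v, g.1 (J v) = J (g.1 v)) : False := by
  have hr1 : 1 ≤ r := hr.out.pos
  obtain ⟨U, ⟨hUW, hUi, -⟩, hUd⟩ := exists_ts_odd hg hr2 hrq hi 1 (resid g) hW (inv_resid g) hf hd 1 le_rfl
  rw [one_mul] at hUd
  set i := orderOf (Fintype.card F : ZMod r) with hidef
  rw [blockDim, if_neg (Nat.not_even_iff_odd.2 hi), one_mul] at hd
  have hν0 := nu_ne_zero (F := F) (ν := ν)
  have hJinj : Function.Injective J := fun a b h => by
    have h' := congrArg J h
    rw [hJ.sq, hJ.sq] at h'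
    exact smul_right_injective V hν0 h'
  have hJW : ∀ w ∈ resid g, J w ∈ resid g := by
    rintro _ ⟨u, rfl⟩
    exact ⟨J u, by rw [resMap_apply, resMap_apply, map_sub, hcomm]⟩
  set U' := U.map J with hU'
  have hU'W : U' ≤ resid g := by rintro _ ⟨u, hu, rfl⟩; exact hJW u (hUW hu)
  have hU'i : Inv g U' := by rintro _ ⟨u, hu, rfl⟩; exact ⟨g.1 u, hUi u hu, (hcomm u).symm⟩
  have hU'd : Module.finrank F U' = i := by
    rw [hU', ← hUd]; exact ((Submodule.equivMapOfInjective J hJinj U).finrank_eq).symm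
  have hUf : FixFree g U := fun w hw => hf w (hUW hw)
  have hII : Inv g (U ⊓ U') := fun w hw => ⟨hUi w hw.1, hU'i w hw.2⟩
  have hdvd := inv_dim_dvd hg hII fun w hw => hUf w hw.1
  have hle : Module.finrank F ↥(U ⊓ U') ≤ i := hUd ▸ Submodule.finrank_mono inf_le_left
  rcases Nat.eq_zero_or_pos (Module.finrank F ↥(U ⊓ U')) with h0 | hpos
  · -- the block is killed by one class
    have hsup : U ⊔ U' = resid g := Submodule.eq_of_le_of_finrank_le (sup_le hUW hU'W) (by
      have := Submodule.finrank_sup_add_finrank_inf_eq U U'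
      omega)
    obtain ⟨P, hP, hPU⟩ := class_of_small hg hrq hUi hUf hUd
    have hPW : ∀ w ∈ resid g, aeval (endT g) P w = 0 := by
      intro w hw
      rw [← hsup] at hw
      obtain ⟨a, ha, _, ⟨b, hb, rfl⟩, rfl⟩ := Submodule.mem_sup.1 hw
      rw [map_add, hPU a ha, aeval_comm (T := endT g) hcomm, hPU b hb, map_zero, add_zero]
    have hPW' : ∀ w ∈ resid g, aeval (endT g ^ (r - 1)) P w = 0 := by
      intro w hw
      refine hW.eq_zero (aeval_mem ((inv_resid g).pow (r - 1)) P w hw) fun u hu => ?_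
      have hadj := aeval_adjoint (Q := Q) (S := endT g) (S' := endT g ^ (r - 1))
        (fun a b => by
          have h := endT_adjoint (Q := Q) hg (a := 1) (b := r - 1) (by rw [Nat.add_sub_cancel' hr1]) a b
          rwa [pow_one] at h) P u w
      rw [← hadj, hPW u hu, map_zero, LinearMap.zero_apply]
    obtain ⟨v, hv, hv0⟩ := Submodule.exists_mem_ne_zero_of_ne_bot (p := U) fun h => by
      rw [h, finrank_bot] at hUd
      have := order_pos (F := F) hrq
      omega
    exact class_not_inverse hg hr2 hrq hi hv0 (fun h => hv0 (hUf v hv h)) hP (hPW v (hUW hv)) (hPW' v (hUW hv))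
  · -- the half would be stable
    have hdi : Module.finrank F ↥(U ⊓ U') = i := le_antisymm hle (Nat.le_of_dvd hpos hdvd)
    have e1 : U ⊓ U' = U := Submodule.eq_of_le_of_finrank_le inf_le_left (by omega)
    have e2 : U ⊓ U' = U' := Submodule.eq_of_le_of_finrank_le inf_le_right (by omega)
    have hUU : U' = U := e2.symm.trans e1
    have hJU : ∀ u ∈ U, J u ∈ U := fun u hu => hUU ▸ Submodule.mem_map_of_mem hu
    set T : Module.End F U := J.restrict hJU with hT
    have hTT : T * T = ν • (1 : Module.End F U) := LinearMap.ext fun u => Subtype.ext (hJ.sq u)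
    have h := congrArg LinearMap.det hTT
    rw [map_mul, LinearMap.det_smul, map_one, mul_one, hUd] at h
    obtain ⟨c, hc⟩ := hi
    rw [hc] at h
    refine hν.out ⟨LinearMap.det T / ν ^ c, ?_⟩
    rw [div_mul_div_comm, h, pow_succ, pow_mul', pow_two]
    field_simp

/-- Elements of order `r` fixing nothing. -/
theorem exists_derangement (hQ : (polB Q).Nondegenerate) (h5 : 5 ≤ Module.finrank F V) (hr2 : r ≠ 2)
    (h : r ∣ Fintype.card F ∨ (¬ 4 ∣ orderOf (Fintype.card F : ZMod r) ∧ RealBlocks Q r 1)) :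
    ∃ g : orthGroup Q, g ^ r = 1 ∧ g ≠ 1 ∧ ∀ J, IsQS Q ν J → ¬ ∀ v, g.1 (J v) = J (g.1 v) := by
  by_cases hrq : r ∣ Fintype.card F
  · exact derange_char hQ h5 hr2 hrq
  obtain ⟨h4, hreal⟩ := h.resolve_left hrq
  obtain ⟨g, hg, hgd⟩ := exists_element hQ hr2 hrq 1 hreal
  obtain ⟨-, hWn, -, hWf⟩ := fixed_moved hQ hg hrq
  have hbd := blockDim_pos (F := F) hrq
  refine ⟨g, hg, fun h => ?_, fun J hJ hcomm => ?_⟩
  · rw [h, resid_one, finrank_bot] at hgd; omega
  rcases Nat.even_or_odd (orderOf (Fintype.card F : ZMod r)) with he | ho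
  · obtain ⟨j, hj⟩ := he
    rw [← two_mul] at hj
    have hjo : Odd j := Nat.not_even_iff_odd.1 fun ⟨m, hm⟩ => h4 ⟨m, by omega⟩
    refine derange_two_mod_four hg hrq hjo hj hWn hWf ?_ hJ hcomm
    rw [hgd, blockDim, if_pos (hj ▸ even_two_mul j), hj, one_mul]
  · exact derange_odd hg hr2 hrq ho hWn hWf hgd hJ hcomm

end OrthExtFix

end H45
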