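import Mathlib
import Cfsg.Agent.H45.OrthExtFix.Struct
import Cfsg.Agent.H47.OrthI
import Cfsg.Agent.H47.OrthTwo

/-!
Every involution of the projective commutator subgroup normalises a conjugate of a given self-adjoint square root of a
non-square.
-/

set_option autoImplicit false
set_option linter.unusedSectionVars false

namespace H45

namespace OrthExtFix

open H43 H47

variable {F : Type*} [Field F] [Fintype F] {V : Type*} [AddCommGroup V] [Module F V] [FiniteDimensional F V]
  {Q : QuadraticForm F V} {ν : F}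

/-- A structure on a subspace, zero on its perpendicular, normalised by `g`. -/
structure Good (ν : F) (g : orthGroup Q) (σ : F) (W : Submodule F V) (J : Module.End F V) : Prop where
  mem : ∀ v, J v ∈ W
  kills : ∀ v, (∀ w ∈ W, polB Q v w = 0) → J v = 0
  adj : ∀ u v, polB Q (J u) v = polB Q u (J v)
  sq : ∀ w ∈ W, J (J w) = ν • w
  comm : ∀ v, g.1 (J v) = σ • J (g.1 v)

theorem good_bot (g : orthGroup Q) (σ : F) : Good ν g σ ⊥ 0 where
  mem _ := zero_mem _
  kills _ _ := rfl
  adj _ _ := by simp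
  sq w hw := by simp [(Submodule.mem_bot F).1 hw]
  comm _ := by simp

theorem Good.glue {g : orthGroup Q} {σ : F} {U R : Submodule F V} {J J' : Module.End F V} (h : Good ν g σ U J)
    (h' : Good ν g σ R J') (hUR : PerpTo Q U R) : Good ν g σ (U ⊔ R) (J + J') where
  mem v := Submodule.add_mem_sup (h.mem v) (h'.mem v)
  kills v hv := by
    rw [LinearMap.add_apply, h.kills v fun w hw => hv w (Submodule.mem_sup_left hw),
      h'.kills v fun w hw => hv w (Submodule.mem_sup_right hw), add_zero]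
  adj u v := by simp only [LinearMap.add_apply, map_add, h.adj, h'.adj]
  sq w hw := by
    obtain ⟨u, hu, r, hr, rfl⟩ := Submodule.mem_sup.1 hw
    have e1 : J r = 0 := h.kills r fun w hw => by rw [polB_comm]; exact hUR w hw r hr
    have e2 : J' u = 0 := h'.kills u fun w hw => hUR u hu w hw
    have e3 : J' (J u) = 0 := h'.kills _ fun w hw => hUR _ (h.mem u) w hw
    have e4 : J (J' r) = 0 := h.kills _ fun w hw => by rw [polB_comm]; exact hUR w hw _ (h'.mem r)
    simp only [LinearMap.add_apply, map_add, e1, e2, e3, e4, h.sq u hu, h'.sq r hr, add_zero, zero_add, map_zero,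
      smul_add]
  comm v := by simp only [LinearMap.add_apply, map_add, h.comm, h'.comm, smul_add]

/-- The structure of an orthogonal pair. -/
noncomputable def planeJ (Q : QuadraticForm F V) (e f : V) (s t : F) : Module.End F V :=
  (2 * Q e)⁻¹ • (polB Q e).smulRight (s • e + (t * Q e) • f) +
    (2 * Q f)⁻¹ • (polB Q f).smulRight ((t * Q f) • e - s • f)

theorem planeJ_apply (e f : V) (s t : F) (v : V) :
    planeJ Q e f s t v = ((2 * Q e)⁻¹ * polB Q e v) • (s • e + (t * Q e) • f) +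
      ((2 * Q f)⁻¹ * polB Q f v) • ((t * Q f) • e - s • f) := by
  simp only [planeJ, LinearMap.add_apply, LinearMap.smul_apply, LinearMap.coe_smulRight, smul_smul]

/-- An orthogonal pair of anisotropic vectors. -/
structure Pair (Q : QuadraticForm F V) (e f : V) : Prop where
  left : Q e ≠ 0
  right : Q f ≠ 0
  perp : polB Q e f = 0

theorem Pair.span (h2 : (2 : F) ≠ 0) {e f : V} (h : Pair Q e f) :
    Module.finrank F (Submodule.span F ({e, f} : Set V)) = 2 ∧ NdOn Q (Submodule.span F ({e, f} : Set V)) := by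
  have key : ∀ a b : F, (∀ u ∈ Submodule.span F ({e, f} : Set V), polB Q u (a • e + b • f) = 0) → a = 0 ∧ b = 0 := by
    intro a b H
    have hx := H e (Submodule.subset_span (by simp))
    have hy := H f (Submodule.subset_span (by simp))
    simp only [map_add, map_smul, smul_eq_mul, polB_self, polB_comm f e, h.perp, mul_zero, add_zero, zero_add] at hx hy
    exact ⟨(mul_eq_zero.mp hx).resolve_right (mul_ne_zero h2 h.left),
      (mul_eq_zero.mp hy).resolve_right (mul_ne_zero h2 h.right)⟩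
  refine ⟨?_, ndOn_of fun w hw hw' => ?_⟩
  · have hli : LinearIndependent F ![e, f] := by
      rw [LinearIndependent.pair_iff]
      intro a b e'
      exact key a b fun u _ => by rw [e', map_zero]
    have := finrank_span_eq_card hli
    rwa [show Set.range ![e, f] = {e, f} by ext v; simp [eq_comm, or_comm], Fintype.card_fin] at this
  · obtain ⟨a, b, rfl⟩ := mem_pair hw
    obtain ⟨rfl, rfl⟩ := key a b hw'
    simp

theorem planeJ_good (h2 : (2 : F) ≠ 0) {e f : V} (h : Pair Q e f) {s t : F}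
    (hst : s * s + t * t * (Q e * Q f) = ν) {g : orthGroup Q} {σ : F}
    (hg : ∀ v, g.1 (planeJ Q e f s t v) = σ • planeJ Q e f s t (g.1 v)) :
    Good ν g σ (Submodule.span F ({e, f} : Set V)) (planeJ Q e f s t) := by
  have ha := h.left
  have hb := h.right
  refine ⟨fun v => ?_, fun v hv => ?_, fun u v => ?_, fun w hw => ?_, hg⟩
  · rw [planeJ_apply]
    exact Submodule.mem_span_pair.2 ⟨(2 * Q e)⁻¹ * polB Q e v * s + (2 * Q f)⁻¹ * polB Q f v * (t * Q f),
      (2 * Q e)⁻¹ * polB Q e v * (t * Q e) - (2 * Q f)⁻¹ * polB Q f v * s, by module⟩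
  · rw [planeJ_apply, polB_comm e v, polB_comm f v, hv e (Submodule.subset_span (by simp)),
      hv f (Submodule.subset_span (by simp))]
    simp
  · simp only [planeJ_apply, map_add, map_sub, map_smul, LinearMap.add_apply, LinearMap.sub_apply, LinearMap.smul_apply,
      smul_eq_mul, polB_comm u e, polB_comm u f]
    field_simp
    ring
  · obtain ⟨a, b, rfl⟩ := mem_pair hw
    have he : planeJ Q e f s t e = s • e + (t * Q e) • f := by
      rw [planeJ_apply, polB_self, polB_comm f e, h.perp, mul_zero, zero_smul, add_zero,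
        inv_mul_cancel₀ (mul_ne_zero h2 ha), one_smul]
    have hf : planeJ Q e f s t f = (t * Q f) • e - s • f := by
      rw [planeJ_apply, polB_self, h.perp, mul_zero, zero_smul, zero_add, inv_mul_cancel₀ (mul_ne_zero h2 hb), one_smul]
    simp only [map_add, map_smul, he, map_sub, hf, ← hst]
    module

theorem planeJ_scalar {e f : V} {g : orthGroup Q} {c : F} (hc : c * c = 1) (he : g.1 e = c • e) (hf : g.1 f = c • f)
    (s t : F) (v : V) : g.1 (planeJ Q e f s t v) = (1 : F) • planeJ Q e f s t (g.1 v) := by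
  have key : ∀ x : V, g.1 x = c • x → polB Q x (g.1 v) = c * polB Q x v := fun x hx => by
    have h1 := polB_orth_apply g x v
    rw [hx, map_smul, LinearMap.smul_apply, smul_eq_mul] at h1
    linear_combination c * h1 - polB Q x (g.1 v) * hc
  rw [one_smul, planeJ_apply, planeJ_apply, key e he, key f hf]
  simp only [map_add, map_sub, map_smul, he, hf]
  module

theorem planeJ_quarter {e f : V} {g : orthGroup Q} (he : g.1 e = f) (hf : g.1 f = -e) (s t : F) (v : V) :
    g.1 (planeJ Q e f s t v) = (-1 : F) • planeJ Q e f s t (g.1 v) := by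
  have hQ : Q f = Q e := by rw [← he]; exact g.2 e
  have k1 : polB Q e (g.1 v) = -polB Q f v := by
    have h1 := polB_orth_apply g f v
    rw [hf, map_neg, LinearMap.neg_apply] at h1
    linear_combination -h1
  have k2 : polB Q f (g.1 v) = polB Q e v := by
    have h1 := polB_orth_apply g e v
    rwa [he] at h1
  rw [planeJ_apply, planeJ_apply, k1, k2, hQ]
  simp only [map_add, map_sub, map_smul, he, hf]
  module

theorem planeJ_flip (h2 : (2 : F) ≠ 0) {e f : V} (h : Pair Q e f) (s t : F) (v : V) :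
    (refl Q f).1 (planeJ Q e f s t ((refl Q f).1 v)) = planeJ Q e f s (-t) v := by
  have he : (refl Q f).1 e = e := refl_fix h.perp
  have hf : (refl Q f).1 f = -f := by
    rw [refl_apply, polB_self, show (Q f)⁻¹ * (2 * Q f) = 2 by field_simp [h.right], two_smul]
    abel
  have k1 : polB Q e ((refl Q f).1 v) = polB Q e v := by
    have h1 := polB_orth_apply (refl Q f) e v
    rwa [he] at h1
  have k2 : polB Q f ((refl Q f).1 v) = -polB Q f v := by
    have h1 := polB_orth_apply (refl Q f) f v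
    rw [hf, map_neg, LinearMap.neg_apply] at h1
    linear_combination -h1
  rw [planeJ_apply, planeJ_apply, k1, k2]
  simp only [map_add, map_sub, map_smul, he, hf]
  module

theorem exists_st (h2 : (2 : F) ≠ 0) (ν : F) {c : F} (hc : c ≠ 0) : ∃ s t : F, s * s + t * t * c = ν := by
  classical
  obtain ⟨a, b, hab⟩ := FiniteField.exists_root_sum_quadratic (R := F) (f := Polynomial.X ^ 2 - Polynomial.C ν)
    (g := Polynomial.C c * Polynomial.X ^ 2) (Polynomial.degree_X_pow_sub_C (by norm_num) ν)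
    (Polynomial.degree_C_mul_X_pow 2 hc) (FiniteField.odd_card_of_char_ne_two fun e => h2 (by
      rw [show (2 : F) = ((2 : ℕ) : F) by norm_num, ← e]; exact CharP.cast_eq_zero F _))
  simp only [Polynomial.eval_sub, Polynomial.eval_pow, Polynomial.eval_X, Polynomial.eval_C, Polynomial.eval_mul] at hab
  exact ⟨a, b, by linear_combination hab⟩

theorem exists_anisotropic {W : Submodule F V} (hW : NdOn Q W) (hW0 : W ≠ ⊥) : ∃ x ∈ W, Q x ≠ 0 := by
  by_contra hall
  push Not at hall
  exact hW0 ((eq_bot_iff).mpr fun w hw => (Submodule.mem_bot F).mpr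
    (hW.eq_zero hw fun u hu => polB_eq_zero_of_singular hall hu hw))

theorem exists_pair (h2 : (2 : F) ≠ 0) {W : Submodule F V} (hW : NdOn Q W) (hev : Even (Module.finrank F W))
    (hW0 : W ≠ ⊥) : ∃ e f : V, Pair Q e f ∧ e ∈ W ∧ f ∈ W ∧ ∃ R ≤ W, NdOn Q R ∧
      PerpTo Q (Submodule.span F ({e, f} : Set V)) R ∧ Submodule.span F ({e, f} : Set V) ⊔ R = W ∧
      Module.finrank F R + 2 = Module.finrank F W := by
  obtain ⟨e, he, hQe⟩ := exists_anisotropic hW hW0
  have he0 : e ≠ 0 := fun h => hQe (by rw [h, map_zero])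
  have hen : NdOn Q (F ∙ e) := ndOn_of fun v hv hv' => by
    obtain ⟨t, rfl⟩ := Submodule.mem_span_singleton.mp hv
    have := hv' e (Submodule.mem_span_singleton_self e)
    rw [map_smul, polB_self, smul_eq_mul] at this
    rw [(mul_eq_zero.mp this).resolve_right (mul_ne_zero h2 hQe), zero_smul]
  obtain ⟨L, hLW, hLn, heL, -, hLd⟩ := exists_compl hW ((Submodule.span_singleton_le_iff_mem _ _).mpr he) hen
  rw [finrank_span_singleton he0] at hLd
  have hL0 : L ≠ ⊥ := fun h => by
    rw [h, finrank_bot] at hLd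
    obtain ⟨k, hk⟩ := hev
    omega
  obtain ⟨f, hf, hQf⟩ := exists_anisotropic hLn hL0
  have hp : Pair Q e f := ⟨hQe, hQf, heL e (Submodule.mem_span_singleton_self e) f hf⟩
  obtain ⟨hPd, hPn⟩ := hp.span h2
  have hPW : Submodule.span F ({e, f} : Set V) ≤ W := Submodule.span_le.mpr (by
    rintro _ (rfl | rfl)
    exacts [he, hLW hf])
  obtain ⟨R, hRW, hRn, hPR, hsup, hRd⟩ := exists_compl hW hPW hPn
  exact ⟨e, f, hp, he, hLW hf, R, hRW, hRn, hPR, hsup, by omega⟩

theorem exists_good_scalar (h2 : (2 : F) ≠ 0) (ν : F) {g : orthGroup Q} {c : F} (hc : c * c = 1) (W : Submodule F V)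
    (hW : NdOn Q W) (hev : Even (Module.finrank F W)) (hg : ∀ w ∈ W, g.1 w = c • w) :
    ∃ J, Good ν g 1 W J := by
  obtain ⟨n, hn⟩ : ∃ n, Module.finrank F W = n := ⟨_, rfl⟩
  induction n using Nat.strong_induction_on generalizing W with
  | _ n ih =>
    by_cases hW0 : W = ⊥
    · subst hW0; exact ⟨0, good_bot g 1⟩
    obtain ⟨e, f, hp, he, hf, R, hRW, hRn, hPR, hsup, hRd⟩ := exists_pair h2 hW hev hW0
    obtain ⟨J, hJ⟩ := ih _ (by omega) R hRn (by obtain ⟨k, hk⟩ := hev; exact ⟨k - 1, by omega⟩)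
      (fun w hw => hg w (hRW hw)) rfl
    obtain ⟨s, t, hst⟩ := exists_st h2 ν (mul_ne_zero hp.left hp.right)
    exact ⟨_, hsup ▸ (planeJ_good h2 hp hst (planeJ_scalar hc (hg e he) (hg f hf) s t)).glue hJ hPR⟩

theorem exists_good_i (h2 : (2 : F) ≠ 0) (ν : F) {g : orthGroup Q} (W : Submodule F V) (hW : NdOn Q W)
    (hi : Inv g W) (hg : ∀ w ∈ W, g.1 (g.1 w) = -w) : ∃ J, Good ν g (-1) W J := by
  obtain ⟨n, hn⟩ : ∃ n, Module.finrank F W = n := ⟨_, rfl⟩
  induction n using Nat.strong_induction_on generalizing W with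
  | _ n ih =>
    by_cases hW0 : W = ⊥
    · subst hW0; exact ⟨0, good_bot g _⟩
    obtain ⟨x, hx, hp, R, hRW, hRn, hPR, hsup, hRd, hRi⟩ := split_plane h2 hW hW0 hi hg
    obtain ⟨J, hJ⟩ := ih _ (by omega) R hRn hRi (fun w hw => hg w (hRW hw)) rfl
    have hp' : Pair Q x (g.1 x) := ⟨hp.1, by rw [hp.2.1]; exact hp.1, hp.2.2⟩
    obtain ⟨s, t, hst⟩ := exists_st h2 ν (mul_ne_zero hp'.left hp'.right)
    exact ⟨_, hsup ▸ (planeJ_good h2 hp' hst (planeJ_quarter rfl (hg x hx) s t)).glue hJ hPR⟩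

/-- Two normalised structures conjugate by a reflection. -/
theorem exists_two (h2 : (2 : F) ≠ 0) {g : orthGroup Q} {σ : F} {e f : V} (hp : Pair Q e f)
    (hg : ∀ s t : F, ∀ v, g.1 (planeJ Q e f s t v) = σ • planeJ Q e f s t (g.1 v)) {R : Submodule F V}
    (hPR : PerpTo Q (Submodule.span F ({e, f} : Set V)) R) (hsup : Submodule.span F ({e, f} : Set V) ⊔ R = ⊤)
    {JR : Module.End F V} (hJR : Good ν g σ R JR) :
    ∃ J J' : Module.End F V, IsQS Q ν J ∧ IsQS Q ν J' ∧ (∀ v, g.1 (J v) = σ • J (g.1 v)) ∧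
      (∀ v, g.1 (J' v) = σ • J' (g.1 v)) ∧ ∀ v, (refl Q f).1 (J v) = J' ((refl Q f).1 v) := by
  obtain ⟨s, t, hst⟩ := exists_st h2 ν (mul_ne_zero hp.left hp.right)
  have g1 := (planeJ_good h2 hp hst (hg s t)).glue hJR hPR
  have g2 := (planeJ_good (t := -t) h2 hp (by rw [← hst]; ring) (hg s (-t))).glue hJR hPR
  rw [hsup] at g1 g2
  refine ⟨_, _, ⟨fun v => g1.sq v trivial, g1.adj⟩, ⟨fun v => g2.sq v trivial, g2.adj⟩, g1.comm, g2.comm, fun v => ?_⟩
  have hff : (refl Q f).1 ((refl Q f).1 v) = v := by rw [← orth_mul_apply, refl_sq]; rfl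
  have hperp : ∀ r ∈ R, polB Q r f = 0 := fun r hr => by
    rw [polB_comm]; exact hPR f (Submodule.subset_span (by simp)) r hr
  have e1 : (refl Q f).1 (JR v) = JR v := refl_fix (hperp _ (hJR.mem v))
  have e2 : JR ((refl Q f).1 v) = JR v := by
    rw [refl_apply, map_sub, map_smul, hJR.kills f fun w hw => hPR f (Submodule.subset_span (by simp)) w hw,
      smul_zero, sub_zero]
  rw [LinearMap.add_apply, LinearMap.add_apply, map_add, e1, e2, ← planeJ_flip h2 hp s t ((refl Q f).1 v), hff]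

variable [hν : Fact (¬ IsSquare ν)]

/-- The centraliser of a structure contains an element of determinant one and non-square spinor norm. -/
theorem exists_spinor (hQ : (polB Q).Nondegenerate) (hgen : ReflGenerates F V) (h4 : 4 ≤ Module.finrank F V)
    {J : Module.End F V} (hJ : IsQS Q ν J) :
    ∃ k : orthGroup Q, (∀ v, k.1 (J v) = J (k.1 v)) ∧ invHom hQ hgen k = (1, sqc ν) := by
  obtain ⟨w, hw⟩ := exists_qmap_eq (polB_qJ_nondeg (hJ := hJ) hQ) (by have := finrank_WJ (hJ := hJ); omega) 1 one_ne_zero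
  set v := toV w with hv
  have hQv : Q v = 1 := by rw [hv, ← qJ_re, hw, QuadraticAlgebra.re_one]
  have hν0 := nu_ne_zero (F := F) (ν := ν)
  have hJv : polB Q (J v) v = 0 := by
    have := qJ_im w
    rw [hw, QuadraticAlgebra.im_one, mul_zero, eq_comm, mul_eq_zero] at this
    exact this.resolve_left (inv_ne_zero hν0)
  have hQJ : Q (J v) = ν := by
    have h1 := polB_self (Q := Q) (J v)
    rw [hJ.adj, hJ.sq, map_smul, polB_self, hQv, mul_one, smul_eq_mul, mul_comm] at h1
    exact (mul_left_cancel₀ (two_ne (F := F) (ν := ν)) h1).symm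
  refine ⟨refl Q v * refl Q (J v), fun x => ?_, ?_⟩
  · have hxv : polB Q (J x) v = polB Q x (J v) := hJ.adj _ _
    have hxJ : polB Q (J x) (J v) = ν * polB Q x v := by rw [hJ.adj, hJ.sq, map_smul, smul_eq_mul]
    simp only [orth_mul_apply, refl_apply, hQv, hQJ, map_sub, map_smul, LinearMap.sub_apply, LinearMap.smul_apply,
      hJ.sq, hxv, hxJ, hJv, smul_zero, zero_smul, sub_zero, inv_one, one_mul]
    match_scalars <;> field_simp
  · rw [map_mul, invHom_refl hQ hgen (by rw [hQv]; exact one_ne_zero), invHom_refl hQ hgen (by rw [hQJ]; exact hν0),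
      hQv, hQJ, sqc_one]
    exact Prod.ext (by show Multiplicative.ofAdd (1 : ZMod 2) * Multiplicative.ofAdd 1 = 1; rfl) (one_mul _)

/-- Every projective involution normalises a conjugate under the commutator subgroup. -/
theorem exists_fix (hQ : (polB Q).Nondegenerate) (h5 : 5 ≤ Module.finrank F V) {J₀ : Module.End F V}
    (hJ₀ : IsQS Q ν J₀) {g : orthGroup Q} (hg : g ∈ commutator (orthGroup Q))
    (hgg : (∀ v, g.1 (g.1 v) = v) ∨ (∀ v, g.1 (g.1 v) = -v)) :
    ∃ φ ∈ commutator (orthGroup Q), ∃ σ : F, (σ = 1 ∨ σ = -1) ∧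
      ∀ v, g.1 (φ.1 (J₀ (φ.1.symm v))) = σ • φ.1 (J₀ (φ.1.symm (g.1 v))) := by
  classical
  have h2 := two_ne (F := F) (ν := ν)
  have hgen : ReflGenerates F V := reflGenerates_of_card (Or.inr (by omega))
  obtain ⟨σ, hσ, f, hf, J, J', hJ, hJ', hgJ, hgJ', hconj⟩ : ∃ σ : F, (σ = 1 ∨ σ = -1) ∧ ∃ f : V, Q f ≠ 0 ∧
      ∃ J J' : Module.End F V, IsQS Q ν J ∧ IsQS Q ν J' ∧ (∀ v, g.1 (J v) = σ • J (g.1 v)) ∧
      (∀ v, g.1 (J' v) = σ • J' (g.1 v)) ∧ ∀ v, (refl Q f).1 (J v) = J' ((refl Q f).1 v) := by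
    rcases hgg with hgg | hgg
    · have hne : ¬ 2 ∣ Fintype.card F := fun h =>
        Nat.not_even_iff_odd.2 (odd_card (F := F) (ν := ν)) (even_iff_two_dvd.2 h)
      haveI : Fact (Nat.Prime 2) := ⟨Nat.prime_two⟩
      have hg2 : g ^ 2 = 1 := orth_ext fun v => by rw [pow_two, orth_mul_apply, hgg]; rfl
      obtain ⟨hKn, hRn, hKR, -⟩ := fixed_moved hQ hg2 hne
      have hperp := perp_fixed_resid g
      have hK1 : ∀ w ∈ LinearMap.ker (resMap g), g.1 w = (1 : F) • w := fun w hw => by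
        rw [one_smul]; exact mem_ker_resMap.mp hw
      have hR1 : ∀ w ∈ resid g, g.1 w = (-1 : F) • w := by
        rintro w ⟨u, rfl⟩
        rw [resMap_apply, map_sub, hgg, neg_one_smul, neg_sub]
      have hdick : dickson g = 1 := ((mem_commutator_iff hQ hgen (by omega) g).1 hg).1
      have hRev : Even (Module.finrank F (resid g)) := by
        rw [even_iff_two_dvd, ← ZMod.natCast_eq_zero_iff]
        exact Multiplicative.ofAdd.injective hdick
      have hsum : Module.finrank F (LinearMap.ker (resMap g)) + Module.finrank F (resid g) = Module.finrank F V := by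
        rw [← finrank_sup_perp hKn hperp, hKR, finrank_top]
      have hdimV : Even (Module.finrank F V) := ⟨Module.finrank (LExt ν) (WJ hJ₀), by
        have := finrank_WJ (hJ := hJ₀); omega⟩
      have hKev : Even (Module.finrank F (LinearMap.ker (resMap g))) := by
        rw [← hsum, Nat.even_add] at hdimV
        exact hdimV.2 hRev
      obtain ⟨E, E', c, c', hc, hc', hEn, hE'n, hEE, hEsup, hE, hE', hEev, hE'ev, hE0⟩ :
          ∃ (E E' : Submodule F V) (c c' : F), c * c = 1 ∧ c' * c' = 1 ∧ NdOn Q E ∧ NdOn Q E' ∧ PerpTo Q E E' ∧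
            E ⊔ E' = ⊤ ∧ (∀ w ∈ E, g.1 w = c • w) ∧ (∀ w ∈ E', g.1 w = c' • w) ∧
            Even (Module.finrank F E) ∧ Even (Module.finrank F E') ∧ E ≠ ⊥ := by
        by_cases h0 : LinearMap.ker (resMap g) = ⊥
        · exact ⟨_, _, -1, 1, by norm_num, by norm_num, hRn, hKn, hperp.symm, by rw [sup_comm, hKR], hR1, hK1,
            hRev, hKev, fun h => by rw [h0, h, finrank_bot] at hsum; omega⟩
        · exact ⟨_, _, 1, -1, by norm_num, by norm_num, hKn, hRn, hperp, hKR, hK1, hR1, hKev, hRev, h0⟩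
      obtain ⟨e, f, hp, he, hf, R, hRE, hRn', hPR, hsup, hRd⟩ := exists_pair h2 hEn hEev hE0
      obtain ⟨J1, hJ1⟩ := exists_good_scalar h2 ν hc R hRn' (by obtain ⟨k, hk⟩ := hEev; exact ⟨k - 1, by omega⟩)
        fun w hw => hE w (hRE hw)
      obtain ⟨J2, hJ2⟩ := exists_good_scalar h2 ν hc' E' hE'n hE'ev hE'
      have hRE' : PerpTo Q R E' := fun u hu w hw => hEE u (hRE hu) w hw
      refine ⟨1, Or.inl rfl, f, hp.right, exists_two h2 hp (planeJ_scalar hc (hE e he) (hE f hf)) ?_ ?_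
        (hJ1.glue hJ2 hRE')⟩
      · intro p hpm w hw
        obtain ⟨u, hu, w', hw', rfl⟩ := Submodule.mem_sup.1 hw
        rw [map_add, hPR p hpm u hu, hEE p (hsup ▸ Submodule.mem_sup_left hpm) w' hw', add_zero]
      · rw [← sup_assoc, hsup, hEsup]
    · have hV0 : (⊤ : Submodule F V) ≠ ⊥ := fun h => by
        have := finrank_top (R := F) (M := V)
        rw [h, finrank_bot] at this
        omega
      obtain ⟨x, hx, hp, R, hRW, hRn, hPR, hsup, hRd, hRi⟩ :=
        split_plane h2 (ndOn_top hQ) hV0 (g := g) (fun _ _ => trivial) fun w _ => hgg w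
      obtain ⟨J1, hJ1⟩ := exists_good_i h2 ν R hRn hRi fun w _ => hgg w
      exact ⟨-1, Or.inr rfl, g.1 x, by rw [hp.2.1]; exact hp.1, exists_two h2
        ⟨hp.1, by rw [hp.2.1]; exact hp.1, hp.2.2⟩ (planeJ_quarter rfl (hgg x)) hPR hsup hJ1⟩
  obtain ⟨φ, hφ⟩ := exists_conj hQ hJ₀ hJ
  -- the determinant
  obtain ⟨J1, hJ1, hgJ1, φ1, hφ1, hdet⟩ : ∃ J1 : Module.End F V, IsQS Q ν J1 ∧ (∀ v, g.1 (J1 v) = σ • J1 (g.1 v)) ∧
      ∃ φ1 : orthGroup Q, (∀ v, φ1.1 (J₀ v) = J1 (φ1.1 v)) ∧ (invHom hQ hgen φ1).1 = 1 := by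
    rcases (show (invHom hQ hgen φ).1 = 1 ∨ (invHom hQ hgen φ).1 = Multiplicative.ofAdd 1 by
      generalize (invHom hQ hgen φ).1 = x; revert x; decide) with hd | hd
    · exact ⟨J, hJ, hgJ, φ, hφ, hd⟩
    · refine ⟨J', hJ', hgJ', refl Q f * φ, fun v => by rw [orth_mul_apply, orth_mul_apply, hφ, hconj], ?_⟩
      rw [map_mul, Prod.fst_mul, invHom_refl hQ hgen hf, hd]
      show Multiplicative.ofAdd (1 : ZMod 2) * Multiplicative.ofAdd 1 = 1
      decide
  -- the spinor norm
  obtain ⟨k, hk, hkinv⟩ := exists_spinor hQ hgen (by omega) hJ1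
  obtain ⟨φ2, hφ2, hmem⟩ : ∃ φ2 : orthGroup Q, (∀ v, φ2.1 (J₀ v) = J1 (φ2.1 v)) ∧ invHom hQ hgen φ2 = 1 := by
    obtain ⟨l, hl, hls⟩ := sqc_surjective (invHom hQ hgen φ1).2
    have h2' : ringChar F ≠ 2 := fun e => h2 (by
      rw [show (2 : F) = ((2 : ℕ) : F) by norm_num, ← e]; exact CharP.cast_eq_zero _ _)
    by_cases hsq : IsSquare l
    · exact ⟨φ1, hφ1, Prod.ext hdet (hls ▸ (sqc_eq_one_iff hl).2 hsq)⟩
    · refine ⟨k * φ1, fun v => by rw [orth_mul_apply, orth_mul_apply, hφ1, hk], ?_⟩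
      rw [map_mul, hkinv]
      refine Prod.ext (by rw [Prod.fst_mul, hdet]; exact one_mul _) ?_
      show sqc ν * (invHom hQ hgen φ1).2 = 1
      rw [← hls, ← sqc_mul (nu_ne_zero (F := F) (ν := ν)) hl, sqc_eq_one_iff (mul_ne_zero (nu_ne_zero (F := F) (ν := ν)) hl)]
      rw [← quadraticChar_one_iff_isSquare (mul_ne_zero (nu_ne_zero (F := F) (ν := ν)) hl), map_mul,
        quadraticChar_neg_one_iff_not_isSquare.mpr hν.out, quadraticChar_neg_one_iff_not_isSquare.mpr hsq]
      rfl
  refine ⟨φ2, by rwa [commutator_eq_invKer hQ hgen (by omega), MonoidHom.mem_ker], σ, hσ, fun v => ?_⟩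
  rw [hφ2, hφ2, LinearEquiv.apply_symm_apply, LinearEquiv.apply_symm_apply, hgJ1]

end OrthExtFix

end H45
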