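import Mathlib
import Cfsg.Prelude.Def_GeometricClasses
import Cfsg.Agent.H45.OrthExtFix.Derange
import Cfsg.Agent.H45.OrthExtFix.Involution

/-!
Elements of prime order of `PΩ±_{2d}(q)` and the subgroups of orthogonal type over the quadratic extension.
-/

set_option autoImplicit false
set_option linter.unusedSectionVars false

namespace H45

namespace OrthExtFix

open H43 H47
open scoped Matrix

variable {F : Type*} [Field F] [Fintype F]

omit [Fintype F] in
/-- A quadratic field of self-adjoint matrices is generated by a self-adjoint square root of a non-square. -/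
theorem exists_generator {ι : Type} [Fintype ι] [DecidableEq ι] [Nonempty ι] (h2 : (2 : F) ≠ 0)
    {q : QuadraticForm F (ι → F)} {K : Subalgebra F (Matrix ι ι F)} (hK : Cfsg.Geo.IsFieldSubalgebra 2 K)
    (hKf : Cfsg.Geo.IsSelfAdjointFor (QuadraticMap.polar ⇑q) K) :
    ∃ (ν : F) (J : Matrix ι ι F), ¬ IsSquare ν ∧ IsQS q ν (Matrix.toLin' J) ∧
      ∀ g : GL ι F, g ∈ Cfsg.Geo.subalgebraNormalizer K ↔
        ((g : Matrix ι ι F) * J = J * g ∨ (g : Matrix ι ι F) * J = -(J * g)) := by
  classical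
  haveI : Module.Finite F K := Module.finite_of_finrank_eq_succ hK.finrank_eq
  obtain ⟨x, hxK, hx⟩ : ∃ x ∈ K, ∀ c : F, x ≠ c • (1 : Matrix ι ι F) := by
    by_contra hall
    push Not at hall
    have htop : Submodule.span F {(1 : K)} = ⊤ := eq_top_iff.2 fun y _ => by
      obtain ⟨c, hc⟩ := hall y y.2
      exact Submodule.mem_span_singleton.2 ⟨c, Subtype.ext hc.symm⟩
    have h1 := finrank_span_singleton (K := F) (one_ne_zero (α := K))
    rw [htop, finrank_top, hK.finrank_eq] at h1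
    omega
  -- a basis
  let b : Fin 2 → K := ![1, ⟨x, hxK⟩]
  have hli : LinearIndependent F b := by
    rw [LinearIndependent.pair_iff]
    intro s t hst
    have h := congrArg Subtype.val hst
    simp only [Subalgebra.coe_add, Subalgebra.coe_smul, Subalgebra.coe_one, Subalgebra.coe_zero] at h
    by_cases ht : t = 0
    · subst ht
      rw [zero_smul, add_zero, smul_eq_zero] at h
      exact ⟨h.resolve_right one_ne_zero, rfl⟩
    · refine absurd ?_ (hx (-(t⁻¹ * s)))
      have := congrArg (fun M => t⁻¹ • M) (eq_neg_of_add_eq_zero_right h)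
      simp only [smul_smul, inv_mul_cancel₀ ht, one_smul, smul_neg] at this
      rw [this, neg_smul]
  have hspan := hli.span_eq_top_of_card_eq_finrank' (by rw [hK.finrank_eq, Fintype.card_fin])
  have hmem : ∀ y ∈ K, ∃ s t : F, y = s • 1 + t • x := fun y hy => by
    have h1 : (⟨y, hy⟩ : K) ∈ Submodule.span F (Set.range b) := hspan ▸ Submodule.mem_top
    rw [Submodule.mem_span_range_iff_exists_fun] at h1
    obtain ⟨c, hc⟩ := h1
    refine ⟨c 0, c 1, ?_⟩
    have := congrArg Subtype.val hc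
    simpa [b, Fin.sum_univ_two] using this.symm
  obtain ⟨u, w, hxx⟩ := hmem (x * x) (mul_mem hxK hxK)
  set J : Matrix ι ι F := (2 : F) • x - w • 1 with hJdef
  have hJK : J ∈ K := sub_mem (K.smul_mem hxK _) (K.smul_mem (one_mem K) _)
  set ν := 4 * u + w * w with hνdef
  have hJJ : J * J = ν • 1 := by
    rw [hJdef, hνdef]
    simp only [mul_sub, sub_mul, smul_mul_smul_comm, mul_one, one_mul, smul_mul_assoc, mul_smul_comm, hxx]
    module
  have hJns : ∀ c : F, J ≠ c • 1 := fun c h => hx ((2 : F)⁻¹ * (c + w)) (by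
    have h1 : (2 : F) • x = (c + w) • (1 : Matrix ι ι F) := by rw [add_smul, ← h, hJdef]; abel
    rw [← smul_smul, ← h1, smul_smul, inv_mul_cancel₀ h2, one_smul])
  have hνsq : ¬ IsSquare ν := by
    rintro ⟨s, hs⟩
    obtain ⟨y, -, hy⟩ := hK.inv (J - s • 1) (sub_mem hJK (K.smul_mem (one_mem K) _)) (sub_ne_zero.2 (hJns s))
    have h0 : (J + s • 1) * (J - s • 1) = 0 := by
      simp only [add_mul, mul_sub, hJJ, smul_mul_assoc, mul_smul_comm, one_mul, mul_one, hs]
      module
    have h1 := congrArg (· * y) h0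
    simp only [mul_assoc, hy, mul_one, zero_mul] at h1
    exact hJns (-s) (by rw [neg_smul]; exact eq_neg_of_add_eq_zero_left h1)
  have hJspan : ∀ y ∈ K, ∃ s t : F, y = s • 1 + t • J := fun y hy => by
    obtain ⟨s, t, rfl⟩ := hmem y hy
    refine ⟨s + t * (2 : F)⁻¹ * w, t * (2 : F)⁻¹, ?_⟩
    rw [hJdef]
    match_scalars <;> field_simp
    ring
  refine ⟨ν, J, hνsq, ⟨fun v => ?_, fun a c => ?_⟩, fun g => ⟨fun hg => ?_, fun hg k => ?_⟩⟩
  · rw [Matrix.toLin'_apply, Matrix.toLin'_apply, Matrix.mulVec_mulVec, hJJ, Matrix.smul_mulVec, Matrix.one_mulVec]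
  · simp only [polB_apply, Matrix.toLin'_apply]
    exact hKf J hJK a c
  · obtain ⟨s, t, hst⟩ := hJspan _ ((hg J).1 hJK)
    have hA : (s • 1 + t • J) * (s • 1 + t • J) = ν • (1 : Matrix ι ι F) := by
      rw [← hst]
      calc _ = (g : Matrix ι ι F) * (J * J) * ((g⁻¹ : GL ι F) : Matrix ι ι F) := by
            simp only [mul_assoc, Units.inv_mul_cancel_left]
        _ = _ := by rw [hJJ, mul_smul_comm, mul_one, smul_mul_assoc, Units.mul_inv]
    have h3 : (s * s + t * t * ν - ν) • (1 : Matrix ι ι F) + (2 * s * t) • J = 0 := by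
      rw [← sub_eq_zero.2 hA]
      simp only [add_mul, mul_add, smul_mul_smul_comm, one_mul, mul_one, hJJ]
      module
    have h4 : 2 * s * t = 0 := by
      by_contra hne
      refine hJns (-((2 * s * t)⁻¹ * (s * s + t * t * ν - ν))) ?_
      have := congrArg (fun M => (2 * s * t)⁻¹ • M) (eq_neg_of_add_eq_zero_right h3)
      simp only [smul_smul, inv_mul_cancel₀ hne, one_smul, smul_neg] at this
      rw [this, neg_smul]
    rw [h4, zero_smul, add_zero, smul_eq_zero] at h3
    have h5 := h3.resolve_right one_ne_zero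
    have ht : t ≠ 0 := fun h => hνsq ⟨s, by rw [h] at h5; linear_combination -h5⟩
    have hs0 : s = 0 := by
      rcases mul_eq_zero.1 h4 with h | h
      · exact (mul_eq_zero.1 h).resolve_left h2
      · exact absurd h ht
    subst hs0
    rw [zero_smul, zero_add] at hst
    have hν0 : ν ≠ 0 := fun h => hνsq (h ▸ IsSquare.zero)
    have ht2 : t * t = 1 := mul_right_cancel₀ hν0 (by linear_combination h5)
    have hgJ : (g : Matrix ι ι F) * J = t • (J * g) := by
      rw [← smul_mul_assoc, ← hst, mul_assoc, Units.inv_mul, mul_one]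
    rcases mul_self_eq_one_iff.1 ht2 with rfl | rfl
    · exact Or.inl (by rw [hgJ, one_smul])
    · exact Or.inr (by rw [hgJ, neg_one_smul])
  · obtain ⟨c, hc0, hc⟩ : ∃ c : F, c ≠ 0 ∧ (g : Matrix ι ι F) * J * ((g⁻¹ : GL ι F) : Matrix ι ι F) = c • J := by
      rcases hg with hg | hg
      · exact ⟨1, one_ne_zero, by rw [hg, one_smul, mul_assoc, Units.mul_inv, mul_one]⟩
      · exact ⟨-1, neg_ne_zero.2 one_ne_zero, by rw [hg, neg_mul, mul_assoc, Units.mul_inv, mul_one, neg_one_smul]⟩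
    constructor
    · intro hk
      obtain ⟨s, t, rfl⟩ := hJspan k hk
      rw [mul_add, add_mul, mul_smul_comm, smul_mul_assoc, mul_one, Units.mul_inv, mul_smul_comm, smul_mul_assoc, hc]
      exact add_mem (K.smul_mem (one_mem K) _) (K.smul_mem (K.smul_mem hJK _) _)
    · intro hk
      obtain ⟨s, t, hst⟩ := hJspan _ hk
      have hk' : k = ((g⁻¹ : GL ι F) : Matrix ι ι F) * (s • 1 + t • J) * (g : Matrix ι ι F) := by
        rw [← hst]; simp [mul_assoc]
      have hc' : ((g⁻¹ : GL ι F) : Matrix ι ι F) * J * (g : Matrix ι ι F) = c⁻¹ • J := by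
        have h1 : J = c • (((g⁻¹ : GL ι F) : Matrix ι ι F) * J * (g : Matrix ι ι F)) := by
          rw [← smul_mul_assoc, ← mul_smul_comm, ← hc]
          simp [mul_assoc]
        conv_rhs => rw [h1, smul_smul, inv_mul_cancel₀ hc0, one_smul]
      rw [hk', mul_add, add_mul, mul_smul_comm, smul_mul_assoc, mul_one, Units.inv_mul, mul_smul_comm, smul_mul_assoc, hc']
      exact add_mem (K.smul_mem (one_mem K) _) (K.smul_mem (K.smul_mem hJK _) _)

/-- Splitting off the factors coprime to `r` when `4` divides the order of `q`. -/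
theorem prod_split {Qc r : ℕ} (hQ : 1 ≤ Qc) [hr : Fact r.Prime] (h4 : 4 ∣ orderOf (Qc : ZMod r)) (n : ℕ) :
    ∃ U, ¬ r ∣ U ∧ ∏ j ∈ Finset.range n, (Qc ^ (2 * (j + 1)) - 1) =
      U * ∏ j ∈ Finset.range (n / 2), ((Qc ^ 2) ^ (2 * (j + 1)) - 1) := by
  induction n with
  | zero => exact ⟨1, fun h => hr.out.one_lt.ne' (Nat.dvd_one.1 h), by simp⟩
  | succ n ih =>
    obtain ⟨U, hU, hprod⟩ := ih
    rcases Nat.even_or_odd n with ⟨m, hm⟩ | ⟨m, hm⟩
    · refine ⟨U * (Qc ^ (2 * (n + 1)) - 1), ?_, ?_⟩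
      · rw [hr.out.dvd_mul]
        rintro (h | h)
        · exact hU h
        · rw [← ZMod.natCast_eq_zero_iff, Nat.cast_sub (Nat.one_le_pow _ _ hQ), Nat.cast_pow, Nat.cast_one,
            sub_eq_zero] at h
          obtain ⟨c, hc⟩ := h4.trans (orderOf_dvd_of_pow_eq_one h)
          omega
      · rw [Finset.prod_range_succ, hprod, show (n + 1) / 2 = n / 2 by omega]
        ring
    · refine ⟨U, hU, ?_⟩
      rw [Finset.prod_range_succ, hprod, show (n + 1) / 2 = n / 2 + 1 by omega, Finset.prod_range_succ,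
        show (Qc ^ 2) ^ (2 * (n / 2 + 1)) = Qc ^ (2 * (n + 1)) by rw [← pow_mul]; congr 1; omega]
      ring

variable {ι : Type} [Fintype ι] [DecidableEq ι] {q : QuadraticForm F (ι → F)}

/-- The order of the orthogonal group of a non-degenerate form of even dimension. -/
theorem card_orth_cases (hq : (polB q).Nondegenerate) {d : ℕ} (hN : Fintype.card ι = 2 * (d + 1)) :
    (PlusOn q (⊤ : Submodule F (ι → F)) ∧ Nat.card (orthGroup q) = 2 * Fintype.card F ^ (d * (d + 1)) *
        (Fintype.card F ^ (d + 1) - 1) * ∏ j ∈ Finset.range d, (Fintype.card F ^ (2 * (j + 1)) - 1)) ∨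
    (¬ PlusOn q (⊤ : Submodule F (ι → F)) ∧ Nat.card (orthGroup q) = 2 * Fintype.card F ^ (d * (d + 1)) *
        (Fintype.card F ^ (d + 1) + 1) * ∏ j ∈ Finset.range d, (Fintype.card F ^ (2 * (j + 1)) - 1)) := by
  classical
  have hrank : Module.finrank F (ι → F) = 2 * (d + 1) := by rw [Module.finrank_pi]; exact hN
  rcases H44.equiv_plus_or_minus hrank q (H44.polarSep_of_nondegenerate hq) with ⟨φ, hφ⟩ | ⟨hm, ζ, φ, hζ, hφ⟩
  · refine Or.inl ⟨⟨(H43.stdTS (d + 1) F).map (φ.symm : _ →ₗ[F] (ι → F)), le_top, ?_, ?_⟩, ?_⟩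
    · rintro _ ⟨u, hu, rfl⟩
      show q (φ.symm u) = 0
      rw [hφ, LinearEquiv.apply_symm_apply, ← coe_qPlus]
      exact (H43.stdTS_isTS _ _).2 u hu
    · rw [LinearEquiv.finrank_map_eq, (H43.stdTS_isTS _ _).1, finrank_top, hrank]
    · rw [Nat.card_congr (orthTransport φ (B := qPlus (d + 1) F) fun v => by rw [coe_qPlus, hφ]).toEquiv,
        H44.OCent.card_orth_plus, H44.OCent.plusOrder]
  · refine Or.inr ⟨?_, ?_⟩
    · rintro ⟨U, -, hU, hUd⟩
      refine H47.not_plusOn_qMinus hm (H44.binForm_one_anisotropic hζ) ⟨U.map (φ : (ι → F) →ₗ[F] _), le_top, ?_, ?_⟩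
      · rintro _ ⟨u, hu, rfl⟩
        show qMinus (d + 1 - 1) F 1 ζ (φ u) = 0
        rw [coe_qMinus, ← hφ, hU u hu]
      · rw [LinearEquiv.finrank_map_eq, hUd, finrank_top, finrank_top, φ.finrank_eq]
    · rw [Nat.card_congr (orthTransport φ (B := qMinus (d + 1 - 1) F 1 ζ) fun v => by rw [coe_qMinus, hφ]).toEquiv,
        ← Nat.card_congr (toOrth (qMinus (d + 1 - 1) F 1 ζ)).toEquiv, coe_qMinus, Nat.add_sub_cancel,
        H38.card_minus d 1 ζ (H44.binForm_one_anisotropic hζ)]

/-- What a prime divisor of the index satisfies. -/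
theorem index_prime (hq : (polB q).Nondegenerate) {d : ℕ} (hd : 4 ≤ d) (hN : Fintype.card ι = 2 * d) {ν : F}
    [hν : Fact (¬ IsSquare ν)] {J : Module.End F (ι → F)} (hJ : IsQS q ν J) {H : Subgroup (GL ι F)}
    (hH : ∀ g : orthGroup q, (∀ v, g.1 (J v) = J (g.1 v)) → H45.toGL q g ∈ H)
    {r : ℕ} [hr : Fact r.Prime] (hr2 : r ≠ 2) (hΩ : r ∣ H.relIndex (Cfsg.Geo.omegaGL ⇑q)) :
    r ∣ Fintype.card F ∨ (¬ 4 ∣ orderOf (Fintype.card F : ZMod r) ∧ RealBlocks q r 1) := by
  classical
  by_cases hrq : r ∣ Fintype.card F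
  · exact Or.inl hrq
  refine Or.inr ?_
  obtain ⟨d, rfl⟩ : ∃ e, d = e + 1 := ⟨d - 1, by omega⟩
  have hrank : Module.finrank F (ι → F) = 2 * (d + 1) := by rw [Module.finrank_pi]; exact hN
  have hQ1 : 1 ≤ Fintype.card F := Fintype.card_pos
  set i := orderOf (Fintype.card F : ZMod r) with hidef
  have hi0 : 0 < i := order_pos (F := F) hrq
  have hsub : ∀ n, r ∣ Fintype.card F ^ n - 1 ↔ i ∣ n := fun n => by
    rw [← ZMod.natCast_eq_zero_iff, Nat.cast_sub (Nat.one_le_pow _ _ hQ1), Nat.cast_pow, Nat.cast_one, sub_eq_zero,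
      ← orderOf_dvd_iff_pow_eq_one]
  haveI : Fact (2 < r) := ⟨by have := hr.out.two_le; omega⟩
  have hadd : ∀ n, r ∣ Fintype.card F ^ n + 1 → i ∣ 2 * n ∧ ¬ i ∣ n := fun n h => by
    rw [← ZMod.natCast_eq_zero_iff, Nat.cast_add, Nat.cast_pow, Nat.cast_one, add_eq_zero_iff_eq_neg] at h
    constructor
    · rw [hidef, orderOf_dvd_iff_pow_eq_one, mul_comm, pow_mul, h, neg_one_sq]
    · rw [hidef, orderOf_dvd_iff_pow_eq_one, h]
      exact ZMod.neg_one_ne_one
  have hr2' : ¬ r ∣ 2 := fun h => hr2 ((Nat.prime_dvd_prime_iff_eq hr.out Nat.prime_two).1 h)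
  have hrC : ∀ C, ¬ r ∣ Fintype.card F ^ C := fun C h => hrq (hr.out.dvd_of_dvd_pow h)
  -- the subgroup and its index
  set Ω := Cfsg.Geo.omegaGL ⇑q with hΩdef
  have hidx : H.relIndex Ω * Nat.card ↥(H ⊓ Ω) = Nat.card Ω := by
    rw [Subgroup.relIndex, ← Subgroup.index_mul_card (H.subgroupOf Ω)]
    congr 1
    rw [← Subgroup.inf_subgroupOf_right]
    exact Nat.card_congr (Subgroup.subgroupOfEquivOfLe inf_le_right).toEquiv.symm
  have hΩcard : Nat.card Ω ∣ Nat.card (orthGroup q) := by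
    rw [hΩdef, omegaGL_eq_map, Subgroup.card_map_of_injective (toGL_injective q)]
    exact Subgroup.card_subgroup_dvd_card _
  haveI : Finite (orthGroup q) := Finite.of_injective _ (H45.toGL_injective q)
  have hrO : r ∣ Nat.card (orthGroup q) := (hΩ.trans (Dvd.intro _ hidx)).trans hΩcard
  constructor
  · -- `4` does not divide the order of `q`
    intro h4
    have h5 : 5 ≤ Module.finrank F (ι → F) := by omega
    have hgen : ReflGenerates F (ι → F) := reflGenerates_of_card (Or.inr (by omega))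
    obtain ⟨U, hU, hsplit⟩ := prod_split hQ1 h4 d
    have hWd : Module.finrank (LExt ν) (WJ hJ) = d + 1 := by have := finrank_WJ (hJ := hJ); omega
    obtain ⟨hdiv, hdivE⟩ := prod_dvd_card_stab hq hJ hWd
    -- the Sylow subgroup of the centraliser
    haveI : Finite (orthGroup (qJ hJ)) := Finite.of_injective _ (embStab_injective (hJ := hJ))
    let P : Sylow r (orthGroup (qJ hJ)) := default
    let ψ : orthGroup (qJ hJ) →* GL ι F := (H45.toGL q).comp (embStab hJ)
    have hψ : Function.Injective ψ := (H45.toGL_injective q).comp embStab_injective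
    have hle : (P : Subgroup (orthGroup (qJ hJ))).map ψ ≤ H ⊓ Ω := by
      rintro _ ⟨x, hx, rfl⟩
      refine ⟨hH _ (embStab_comm x), ?_⟩
      rw [hΩdef, omegaGL_eq_map]
      refine ⟨embStab hJ x, ?_, rfl⟩
      obtain ⟨k, hk⟩ := P.isPGroup' ⟨x, hx⟩
      have hxk : embStab hJ x ^ r ^ k = 1 := by
        rw [← map_pow, show x ^ r ^ k = 1 from congrArg Subtype.val hk, map_one]
      show embStab hJ x ∈ commutator (orthGroup q)
      rw [commutator_eq_invKer hq hgen (by omega), MonoidHom.mem_ker]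
      have h1 : invHom hq hgen (embStab hJ x) ^ r ^ k = 1 := by rw [← map_pow, hxk, map_one]
      have h2 : invHom hq hgen (embStab hJ x) ^ 2 = 1 := by
        rw [pow_two]
        refine Prod.ext ?_ (sqClass_mul_self _)
        show (invHom hq hgen (embStab hJ x)).1 * (invHom hq hgen (embStab hJ x)).1 = 1
        generalize (invHom hq hgen (embStab hJ x)).1 = y
        exact (by decide : ∀ y : Multiplicative (ZMod 2), y * y = 1) y
      obtain ⟨m, hm⟩ := (hr.out.odd_of_ne_two hr2).pow (n := k)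
      rwa [hm, pow_succ, pow_mul, h2, one_pow, one_mul] at h1
    have hP : Nat.card (P : Subgroup (orthGroup (qJ hJ))) ∣ Nat.card ↥(H ⊓ Ω) := by
      rw [← Subgroup.card_map_of_injective hψ]
      exact Subgroup.card_dvd_of_le hle
    have hkey : r ^ ((Nat.card (orthGroup (qJ hJ))).factorization r + 1) ∣ Nat.card (orthGroup q) := by
      rw [pow_succ', ← P.card_eq_multiplicity]
      exact ((mul_dvd_mul hΩ hP).trans (dvd_of_eq hidx)).trans hΩcard
    have hcop : ∀ {A M : ℕ}, ¬ r ∣ A → Nat.card (orthGroup q) = A * M →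
        M ∣ Nat.card (orthGroup (qJ hJ)) → False := fun {A M} hA he hM => by
      rw [he] at hkey
      exact Nat.pow_succ_factorization_not_dvd Nat.card_pos.ne' hr.out
        (((Nat.Coprime.pow_left _ ((Nat.Prime.coprime_iff_not_dvd hr.out).2 hA)).dvd_of_dvd_mul_left hkey).trans hM)
    have hA0 : ∀ {B : ℕ}, ¬ r ∣ B → ¬ r ∣ 2 * Fintype.card F ^ (d * (d + 1)) * B := fun {B} hB h => by
      rcases hr.out.dvd_mul.1 h with h | h
      · rcases hr.out.dvd_mul.1 h with h | h
        · exact hr2' h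
        · exact hrC _ h
      · exact hB h
    rcases Nat.even_or_odd d with ⟨m, hm⟩ | ⟨m, hm⟩
    · -- odd `d + 1`
      have hnot : ∀ n, i ∣ 2 * n → Odd n → False := fun n h hn => by
        obtain ⟨c, hc⟩ := h4.trans h
        obtain ⟨l, rfl⟩ := hn
        omega
      rw [show (d + 1 - 1) / 2 = d / 2 by omega] at hdiv
      rcases card_orth_cases hq hN with ⟨-, hc⟩ | ⟨-, hc⟩
      · refine hcop (hA0 (B := (Fintype.card F ^ (d + 1) - 1) * U) ?_) (by rw [hc, hsplit]; ring) hdiv
        rw [hr.out.dvd_mul]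
        rintro (h | h)
        · exact hnot (d + 1) (((hsub _).1 h).mul_left 2) ⟨m, by omega⟩
        · exact hU h
      · refine hcop (hA0 (B := (Fintype.card F ^ (d + 1) + 1) * U) ?_) (by rw [hc, hsplit]; ring) hdiv
        rw [hr.out.dvd_mul]
        rintro (h | h)
        · exact hnot (d + 1) (hadd _ h).1 ⟨m, by omega⟩
        · exact hU h
    · -- even `d + 1`
      have hk : d / 2 = m := by omega
      rw [hk] at hsplit
      have hpow : Fintype.card F ^ (d + 1) = (Fintype.card F ^ 2) ^ (m + 1) := by rw [← pow_mul]; congr 1; omega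
      rcases card_orth_cases hq hN with ⟨hp, hc⟩ | ⟨hp, hc⟩
      · exact hcop (hA0 hU) (by rw [hc, hsplit, hpow]; ring) ((hdivE m (by omega)).1 hp)
      · exact hcop (hA0 hU) (by rw [hc, hsplit, hpow]; ring) ((hdivE m (by omega)).2 hp)
  · -- one block fits
    have hb : blockDim F r = if Even i then i else 2 * i := rfl
    have hsmall : r ∣ ∏ j ∈ Finset.range d, (Fintype.card F ^ (2 * (j + 1)) - 1) → RealBlocks q r 1 := fun h => by
      obtain ⟨j, hj, hj'⟩ := (Prime.dvd_finsetProd_iff hr.out.prime _).1 h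
      rw [Finset.mem_range] at hj
      have hdvd := (hsub _).1 hj'
      have hle := Nat.le_of_dvd (by omega) hdvd
      refine Or.inl ?_
      rw [one_mul, hrank, hb]
      split_ifs with he
      · omega
      · have h' : i ∣ j + 1 :=
          Nat.Coprime.dvd_of_dvd_mul_left (Nat.coprime_two_right.mpr (Nat.not_even_iff_odd.1 he)) hdvd
        have := Nat.le_of_dvd (by omega) h'
        omega
    rcases card_orth_cases hq hN with ⟨hp, hc⟩ | ⟨hp, hc⟩
    · rw [hc] at hrO
      rcases hr.out.dvd_mul.1 hrO with h | h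
      swap
      · exact hsmall h
      have h' := (hr.out.dvd_mul.1 h).resolve_left fun h => (hr.out.dvd_mul.1 h).elim hr2' (hrC _)
      have hdvd := (hsub _).1 h'
      have hle := Nat.le_of_dvd (by omega) hdvd
      show _ ∨ _
      rw [one_mul, hrank, hb]
      by_cases he : Even i
      · left; rw [if_pos he]; omega
      · rw [if_neg he]
        rcases lt_or_eq_of_le hle with hlt | heq
        · left; omega
        · exact Or.inr ⟨by omega, iff_of_true hp (Or.inl (Nat.not_even_iff_odd.1 he))⟩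
    · rw [hc] at hrO
      rcases hr.out.dvd_mul.1 hrO with h | h
      swap
      · exact hsmall h
      have h' := (hr.out.dvd_mul.1 h).resolve_left fun h => (hr.out.dvd_mul.1 h).elim hr2' (hrC _)
      obtain ⟨h1, h1'⟩ := hadd _ h'
      have he : Even i := by
        by_contra he
        exact h1' (Nat.Coprime.dvd_of_dvd_mul_left (Nat.coprime_two_right.mpr (Nat.not_even_iff_odd.1 he)) h1)
      have hle := Nat.le_of_dvd (by omega) h1
      show _ ∨ _
      rw [one_mul, hrank, hb, if_pos he]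
      rcases lt_or_eq_of_le hle with hlt | heq
      · left; omega
      · refine Or.inr ⟨heq, iff_of_false hp ?_⟩
        rintro (h3 | h3)
        · exact Nat.not_even_iff_odd.2 h3 he
        · exact absurd h3 (by decide)

/-- The criterion. -/
theorem crit (q : QuadraticForm F (ι → F)) (hq : (polB q).Nondegenerate) (hodd : Odd (Fintype.card F)) {d : ℕ}
    (hd : 4 ≤ d) (hN : Fintype.card ι = 2 * d)
    (K : Subalgebra F (Matrix ι ι F)) (hK : Cfsg.Geo.IsFieldSubalgebra 2 K)
    (hKf : Cfsg.Geo.IsSelfAdjointFor (QuadraticMap.polar ⇑q) K) (r : ℕ) [hr : Fact r.Prime]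
    (hΩ : r ∣ (Cfsg.Geo.subalgebraNormalizer K).relIndex (Cfsg.Geo.omegaGL ⇑q)) :
    (∀ x ∈ Cfsg.Geo.omegaGL ⇑q, (∃ z : F, ((x ^ r : GL ι F) : Matrix ι ι F) = z • (1 : Matrix ι ι F)) →
      (∀ z : F, (x : Matrix ι ι F) ≠ z • (1 : Matrix ι ι F)) →
      ∃ g ∈ Cfsg.Geo.omegaGL ⇑q, g⁻¹ * x * g ∈ Cfsg.Geo.subalgebraNormalizer K) ↔ r = 2 := by
  classical
  haveI : Nonempty ι := Fintype.card_pos_iff.1 (by omega)
  have h2 : (2 : F) ≠ 0 := H43.two_ne_zero_of_odd_card hodd
  obtain ⟨ν, J₀, hνsq, hJ₀, hnorm⟩ := exists_generator h2 hK hKf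
  haveI : Fact (¬ IsSquare ν) := ⟨hνsq⟩
  have hrank : Module.finrank F (ι → F) = 2 * d := by rw [Module.finrank_pi]; exact hN
  obtain ⟨v0, hv0⟩ := exists_qmap_eq hq (by omega) 1 one_ne_zero
  have hv00 : v0 ≠ 0 := fun e => by rw [e, map_zero] at hv0; exact zero_ne_one hv0
  -- membership in the normaliser
  have hmem : ∀ h : orthGroup q, H45.toGL q h ∈ Cfsg.Geo.subalgebraNormalizer K ↔
      ∃ σ : F, (σ = 1 ∨ σ = -1) ∧ ∀ v, h.1 (Matrix.toLin' J₀ v) = σ • Matrix.toLin' J₀ (h.1 v) := by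
    intro h
    rw [hnorm]
    simp only [Matrix.ext_iff_mulVec, ← Matrix.mulVec_mulVec, Matrix.neg_mulVec, H45.toGL_apply, Matrix.toLin'_apply]
    constructor
    · rintro (h1 | h1)
      · exact ⟨1, Or.inl rfl, fun v => by rw [one_smul]; exact h1 v⟩
      · exact ⟨-1, Or.inr rfl, fun v => by rw [neg_one_smul]; exact h1 v⟩
    · rintro ⟨σ, rfl | rfl, h1⟩
      · exact Or.inl fun v => by rw [h1 v, one_smul]
      · exact Or.inr fun v => by rw [h1 v, neg_one_smul]
  constructor
  · intro hall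
    by_contra hr2
    obtain ⟨g, hgr, hg1, hder⟩ := exists_derangement (ν := ν) hq (by omega) hr2
      (index_prime hq hd hN hJ₀ (fun h hh => (hmem h).2 ⟨1, Or.inl rfl, fun v => by rw [one_smul]; exact hh v⟩) hr2 hΩ)
    obtain ⟨k, hk, hkN⟩ := hall (H45.toGL q g)
      (by rw [omegaGL_eq_map]; exact ⟨g, H47.mem_commutator_of_odd hq (by omega) hr2 hgr, rfl⟩)
      ⟨1, by rw [← map_pow, hgr, map_one, Units.val_one, one_smul]⟩ fun z hz => hg1 (by
        have hgz : ∀ v, g.1 v = z • v := fun v => by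
          rw [← H45.toGL_apply q g v, hz, Matrix.smul_mulVec, Matrix.one_mulVec]
        have hzz : z * z = 1 := by
          have := g.2 v0
          rw [hgz, qmap_smul, hv0, mul_one] at this
          exact this
        have hpow : ∀ n (v : ι → F), (g ^ n).1 v = z ^ n • v := fun n => by
          induction n with
          | zero => intro v; simp
          | succ n ih => intro v; rw [pow_succ', orth_mul_apply, ih, hgz, smul_smul, ← pow_succ']
        have h1 := hpow r v0
        rw [hgr] at h1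
        have hzr : z ^ r = 1 := smul_left_injective F hv00 ((h1.symm.trans (by rfl)).trans (one_smul F v0).symm)
        obtain ⟨m, hm⟩ := hr.out.odd_of_ne_two hr2
        rw [hm, pow_succ, pow_mul, pow_two, hzz, one_pow, one_mul] at hzr
        exact orth_ext fun v => by rw [hgz, hzr, one_smul]; rfl)
    rw [omegaGL_eq_map] at hk
    obtain ⟨φ, -, rfl⟩ := hk
    rw [← map_inv, ← map_mul, ← map_mul, hmem] at hkN
    obtain ⟨σ, hσ, hhJ⟩ := hkN
    obtain ⟨h, hh⟩ : ∃ h, h = φ⁻¹ * g * φ := ⟨_, rfl⟩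
    rw [← hh] at hhJ
    have hhr : h ^ r = 1 := by
      rw [hh, show φ⁻¹ * g * φ = φ⁻¹ * g * φ⁻¹⁻¹ by rw [inv_inv], conj_pow, hgr, mul_one, mul_inv_cancel]
    have hhn : ∀ n v, (h ^ n).1 (Matrix.toLin' J₀ v) = σ ^ n • Matrix.toLin' J₀ ((h ^ n).1 v) := fun n => by
      induction n with
      | zero => intro v; simp
      | succ n ih =>
        intro v
        rw [pow_succ', orth_mul_apply, ih, map_smul, hhJ, smul_smul, orth_mul_apply, pow_succ]
    rcases hσ with rfl | rfl
    · let J' : Module.End F (ι → F) := (φ.1 : (ι → F) →ₗ[F] (ι → F)) ∘ₗ Matrix.toLin' J₀ ∘ₗ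
        (φ.1.symm : (ι → F) →ₗ[F] (ι → F))
      have hJ'a : ∀ v, J' v = φ.1 (Matrix.toLin' J₀ (φ.1.symm v)) := fun v => rfl
      refine hder J' ⟨fun v => ?_, fun u v => ?_⟩ fun v => ?_
      · rw [hJ'a, hJ'a, LinearEquiv.symm_apply_apply, hJ₀.sq, map_smul, LinearEquiv.apply_symm_apply]
      · have hb : ∀ a b, polB q (φ.1 a) (φ.1 b) = polB q a b := fun a b => by
          simp only [polB_apply, QuadraticMap.polar, ← map_add, φ.2 _]
        rw [hJ'a, hJ'a]
        conv_lhs => rw [← φ.1.apply_symm_apply v]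
        conv_rhs => rw [← φ.1.apply_symm_apply u]
        rw [hb, hb]
        exact hJ₀.adj _ _
      · have h1 := congrArg φ.1 (hhJ (φ.1.symm v))
        have hgh : ∀ w, φ.1 (h.1 w) = g.1 (φ.1 w) := fun w => by
          rw [← orth_mul_apply, ← orth_mul_apply, hh, ← mul_assoc, mul_inv_cancel_left]
        rw [one_smul, hgh] at h1
        have h2 : h.1 (φ.1.symm v) = φ.1.symm (g.1 v) := φ.1.injective (by
          rw [hgh, LinearEquiv.apply_symm_apply, LinearEquiv.apply_symm_apply])
        rw [hJ'a, hJ'a, h1, h2]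
    · have h1 := hhn r v0
      rw [hhr, (hr.out.odd_of_ne_two hr2).neg_one_pow, neg_one_smul] at h1
      have h3 : (2 : F) • Matrix.toLin' J₀ v0 = 0 := by
        rw [two_smul]; nth_rw 1 [show Matrix.toLin' J₀ v0 = -Matrix.toLin' J₀ v0 from h1]; exact neg_add_cancel _
      have h4 := hJ₀.sq v0
      rw [(smul_eq_zero.1 h3).resolve_left h2, map_zero, eq_comm, smul_eq_zero] at h4
      exact hv00 (h4.resolve_left (nu_ne_zero (F := F) (ν := ν)))
  · intro hr2 x hx hxz _
    subst hr2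
    rw [omegaGL_eq_map] at hx
    obtain ⟨g, hg, rfl⟩ := hx
    obtain ⟨z, hz⟩ := hxz
    have hgg : ∀ v, g.1 (g.1 v) = z • v := fun v => by
      rw [← orth_mul_apply, ← pow_two, ← H45.toGL_apply q (g ^ 2) v, map_pow, hz, Matrix.smul_mulVec, Matrix.one_mulVec]
    have hzz : z * z = 1 := mul_right_cancel₀ (b := q v0) (by rw [hv0]; exact one_ne_zero)
      (by rw [← qmap_smul, ← hgg, g.2, g.2, one_mul])
    obtain ⟨φ, hφ, σ, hσ, hφg⟩ := exists_fix hq (by omega) hJ₀ hg (by
      rcases mul_self_eq_one_iff.1 hzz with rfl | rfl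
      · exact Or.inl fun v => by rw [hgg, one_smul]
      · exact Or.inr fun v => by rw [hgg, neg_one_smul])
    refine ⟨H45.toGL q φ, by rw [omegaGL_eq_map]; exact ⟨φ, hφ, rfl⟩, ?_⟩
    rw [← map_inv, ← map_mul, ← map_mul, hmem]
    refine ⟨σ, hσ, fun v => ?_⟩
    have h1 := hφg (φ.1 v)
    rw [LinearEquiv.symm_apply_apply] at h1
    show φ.1.symm (g.1 (φ.1 (Matrix.toLin' J₀ v))) = σ • Matrix.toLin' J₀ (φ.1.symm (g.1 (φ.1 v)))
    rw [h1, map_smul, LinearEquiv.symm_apply_apply]

end OrthExtFix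

end H45
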